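import Mathlib
import Cfsg.Prelude.Def_Transfer
import Cfsg.Agent.Lib.PGroups.MaxAbelian

/-!
# Two-groups without normal elementary abelian subgroups of order eight: generalities
-/

set_option autoImplicit false
set_option linter.unusedSectionVars false
set_option linter.style.haveILetI false

namespace CfsgLib.PGroups.NoSCNThree

open Subgroup
open scoped commutatorElement

variable {X : Type*} [Group X] [Finite X]

/-- Every normal elementary abelian subgroup has order at most four. -/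
def NoE8 (X : Type*) [Group X] : Prop :=
  ∀ N : Subgroup X, N.Normal → IsMulCommutative N → (∀ x ∈ N, x ^ 2 = 1) → Nat.card N ≤ 4

theorem noE8_of (hX : IsPGroup 2 X)
    (hscn : ¬ ∃ A : Subgroup X, A.Normal ∧ Subgroup.centralizer (A : Set X) = A ∧
      ∃ E : Subgroup X, E ≤ A ∧ Cfsg.IsElementaryAbelian 2 E ∧ Nat.card E = 8) : NoE8 X := by
  intro N hN hab hexp
  haveI : Fact (Nat.Prime 2) := ⟨Nat.prime_two⟩
  haveI := hN
  by_contra hlt
  obtain ⟨n, hn⟩ := IsPGroup.iff_card.1 (hX.to_subgroup N)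
  have h3 : 3 ≤ n := by
    by_contra h
    have : Nat.card N ≤ 2 ^ 2 := hn ▸ Nat.pow_le_pow_right (by norm_num) (by omega)
    omega
  obtain ⟨A, hAn, -, hNA, hAC⟩ := exists_selfCentralizing_normal hX N hab
  obtain ⟨E₀, hE₀⟩ := Sylow.exists_subgroup_card_pow_prime 2 (G := N) (n := 3)
    (hn ▸ pow_dvd_pow 2 h3)
  refine hscn ⟨A, hAn, hAC, E₀.map N.subtype, (map_subtype_le _).trans hNA, ⟨?_, ?_⟩, ?_⟩
  · exact ⟨⟨fun a b => Subtype.ext (congrArg Subtype.val
      (hab.is_comm.comm ⟨a, map_subtype_le _ a.2⟩ ⟨b, map_subtype_le _ b.2⟩) :)⟩⟩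
  · exact fun a ha => hexp a (map_subtype_le _ ha)
  · rw [card_map_of_injective N.subtype_injective, hE₀]; rfl

theorem sup_zpowers_normal {E : Subgroup X} [E.Normal] {t : X}
    (ht : ∀ x : X, ⁅x, t⁆ ∈ E) : (E ⊔ zpowers t).Normal := by
  refine ⟨fun n hn x => ?_⟩
  have hle : E ⊔ zpowers t ≤ (E ⊔ zpowers t).comap (MulAut.conj x).toMonoidHom := by
    refine sup_le (fun e he => mem_sup_left ((inferInstance : E.Normal).conj_mem e he x))
      (zpowers_le.2 ?_)
    show x * t * x⁻¹ ∈ E ⊔ zpowers t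
    have := mul_mem (mem_sup_left (T := zpowers t) (ht x))
      (mem_sup_right (S := E) (mem_zpowers t))
    rwa [commutatorElement_def, inv_mul_cancel_right] at this
  exact hle hn

theorem zpow_of_sq {t : X} (ht : t ^ 2 = 1) (k : ℤ) : t ^ k = 1 ∨ t ^ k = t := by
  rcases Int.even_or_odd k with ⟨j, rfl⟩ | ⟨j, rfl⟩
  · left; rw [← two_mul, zpow_mul, zpow_two, ← pow_two, ht, one_zpow]
  · right; rw [zpow_add_one, zpow_mul, zpow_two, ← pow_two, ht, one_zpow, one_mul]

theorem mem_sup_zpowers {E : Subgroup X} [E.Normal] {t : X} (ht : t ^ 2 = 1) {n : X}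
    (hn : n ∈ E ⊔ zpowers t) : n ∈ E ∨ ∃ e ∈ E, n = e * t := by
  obtain ⟨e, he, y, hy, rfl⟩ := mem_sup_of_normal_left.1 hn
  obtain ⟨k, rfl⟩ := mem_zpowers_iff.1 hy
  rcases zpow_of_sq ht k with h | h <;> rw [h]
  · left; rwa [mul_one]
  · exact Or.inr ⟨e, he, rfl⟩

/-- An involution cannot extend a normal four-group to a normal elementary abelian group. -/
theorem mem_of_involution (h8 : NoE8 X) {E : Subgroup X} [E.Normal] (hEab : IsMulCommutative E)
    (hE2 : ∀ e ∈ E, e ^ 2 = 1) (hE4 : 4 ≤ Nat.card E) {t : X} (ht2 : t ^ 2 = 1)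
    (htc : ∀ e ∈ E, e * t = t * e) (ht : ∀ x : X, ⁅x, t⁆ ∈ E) : t ∈ E := by
  have hexp : ∀ n ∈ E ⊔ zpowers t, n ^ 2 = 1 := by
    intro n hn
    rcases mem_sup_zpowers ht2 hn with h | ⟨e, he, rfl⟩
    · exact hE2 n h
    · rw [Commute.mul_pow (htc e he), hE2 e he, ht2, one_mul]
  have hc := h8 _ (sup_zpowers_normal ht)
    (isMulCommutative_sup_zpowers hEab (mem_centralizer_iff.2 htc)) hexp
  have := Subgroup.eq_of_le_of_card_ge (le_sup_left (b := zpowers t) (a := E)) (hc.trans hE4)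
  exact this ▸ mem_sup_right (mem_zpowers t)

theorem comm_of_sq_one {Q : Type*} [Group Q] (h : ∀ q : Q, q ^ 2 = 1) (a b : Q) :
    a * b = b * a := by
  have hi : ∀ q : Q, q⁻¹ = q := fun q => inv_eq_of_mul_eq_one_right (by rw [← pow_two, h])
  calc a * b = (a * b)⁻¹ := (hi _).symm
    _ = b⁻¹ * a⁻¹ := mul_inv_rev _ _
    _ = b * a := by rw [hi, hi]

theorem commutator_le_of_squares {N : Subgroup X} [N.Normal] (h : ∀ x : X, x ^ 2 ∈ N) :
    commutator X ≤ N := by
  rw [commutator_def, commutator_le]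
  intro a _ b _
  rw [← QuotientGroup.eq_one_iff]
  show (QuotientGroup.mk' N) ⁅a, b⁆ = 1
  rw [map_commutatorElement, commutatorElement_eq_one_iff_commute]
  exact comm_of_sq_one (fun q => by
    induction q using QuotientGroup.induction_on with
    | _ x => rw [← QuotientGroup.mk_pow, QuotientGroup.eq_one_iff]; exact h x) _ _

theorem frattini_le_of_squares (hX : IsPGroup 2 X) {N : Subgroup X} [N.Normal]
    (h : ∀ x : X, x ^ 2 ∈ N) : frattini X ≤ N := by
  haveI : Fact (Nat.Prime 2) := ⟨Nat.prime_two⟩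
  exact frattini_le_of_elementary_quotient (commutator_le_of_squares h) h

theorem pow_odd_fix {φ : MulAut X} {n : ℕ} (hn : Odd n) (hφ : φ ^ n = 1) {d : X}
    (h2 : φ (φ d) = d) : φ d = d := by
  obtain ⟨m, rfl⟩ := hn
  have h : ∀ j : ℕ, (φ ^ (2 * j)) d = d := by
    intro j
    induction j with
    | zero => rfl
    | succ j ih => rw [Nat.mul_succ, pow_add, MulAut.mul_apply, pow_two, MulAut.mul_apply, h2, ih]
  have h1 := DFunLike.congr_fun hφ d
  rw [add_comm, pow_add, pow_one, MulAut.mul_apply, h, MulAut.one_apply] at h1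
  exact h1

/-- An automorphism of odd order of a four element set fixing two points is trivial. -/
theorem fix_of_card_four {φ : MulAut X} {n : ℕ} (hn : Odd n) (hφ : φ ^ n = 1) {W : Subgroup X}
    (hW : Nat.card W ≤ 4) (hWφ : ∀ w ∈ W, φ w ∈ W) {w₀ : X} (hw₀ : w₀ ∈ W) (hw₀1 : w₀ ≠ 1)
    (hw₀f : φ w₀ = w₀) {d : X} (hd : d ∈ W) : φ d = d := by
  by_contra hne
  classical
  have hd2 : φ (φ d) ≠ d := fun h => hne (pow_odd_fix hn hφ h)
  have hd1 : d ≠ 1 := fun h => hne (by rw [h, map_one])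
  have hdw : d ≠ w₀ := fun h => hne (by rw [h, hw₀f])
  have hsub : ({1, w₀, d, φ d, φ (φ d)} : Finset X) ⊆ (Set.toFinite (W : Set X)).toFinset := by
    intro x hx
    simp only [Finset.mem_insert, Finset.mem_singleton] at hx
    rw [Set.Finite.mem_toFinset]
    rcases hx with rfl | rfl | rfl | rfl | rfl
    exacts [one_mem W, hw₀, hd, hWφ _ hd, hWφ _ (hWφ _ hd)]
  have hcard := Finset.card_le_card hsub
  have hW' : (Set.toFinite (W : Set X)).toFinset.card = Nat.card W :=
    (Nat.card_eq_card_finite_toFinset _).symm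
  have hφd : φ d ≠ φ (φ d) := fun h => hne (φ.injective h).symm
  have h1 : φ d ≠ 1 := fun h => hd1 (φ.injective (h.trans (map_one φ).symm))
  have h2 : φ (φ d) ≠ 1 := fun h => h1 (φ.injective (h.trans (map_one φ).symm))
  have h3 : φ d ≠ w₀ := fun h => hdw (φ.injective (h.trans hw₀f.symm))
  have h4 : φ (φ d) ≠ w₀ := fun h => h3 (φ.injective (h.trans hw₀f.symm))
  simp [hd1.symm, hdw.symm, Ne.symm hne, hd2.symm, hφd, h1.symm, h2.symm, h3.symm, h4.symm,
    hw₀1.symm] at hcard
  omega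

/-- An automorphism of odd order of an abelian 2-group fixing the involutions is trivial. -/
theorem fix_of_fix_involutions (hX : IsPGroup 2 X) {φ : MulAut X} {n : ℕ} (hn : Odd n)
    (hφ : φ ^ n = 1) {D : Subgroup X} (hD : IsMulCommutative D) (hDφ : ∀ d ∈ D, φ d ∈ D)
    (h1 : ∀ d ∈ D, d ^ 2 = 1 → φ d = d) : ∀ d ∈ D, φ d = d := by
  have key : ∀ j : ℕ, ∀ d ∈ D, d ^ 2 ^ j = 1 → φ d = d := by
    intro j
    induction j with
    | zero => intro d _ hd; rw [pow_zero, pow_one] at hd; rw [hd, map_one]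
    | succ j ih =>
      intro d hd hpow
      have hsq : φ (d ^ 2) = d ^ 2 :=
        ih _ (pow_mem hd 2) (by rw [← pow_mul, ← pow_succ']; exact hpow)
      set c := d⁻¹ * φ d with hc
      have hcD : c ∈ D := mul_mem (inv_mem hd) (hDφ d hd)
      have hcc : ∀ a ∈ D, ∀ b ∈ D, Commute a b := fun a ha b hb =>
        congrArg Subtype.val (hD.is_comm.comm ⟨a, ha⟩ ⟨b, hb⟩)
      have hcf : φ c = c := h1 c hcD (by
        rw [hc, Commute.mul_pow (hcc _ (inv_mem hd) _ (hDφ d hd)), inv_pow, ← map_pow, hsq,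
          inv_mul_cancel])
      have hit : ∀ m : ℕ, (φ ^ m) d = d * c ^ m := by
        intro m
        induction m with
        | zero => simp
        | succ m ihm =>
          rw [pow_succ' φ, MulAut.mul_apply, ihm, map_mul, map_pow, hcf,
            show φ d = d * c by rw [hc, mul_inv_cancel_left], mul_assoc, ← pow_succ']
      have hcn := hit n
      rw [hφ, MulAut.one_apply, left_eq_mul] at hcn
      obtain ⟨i, hi⟩ := hX c
      have : c = 1 := by
        rw [← orderOf_eq_one_iff]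
        exact Nat.eq_one_of_dvd_coprimes
          (Nat.Coprime.pow_right i (Nat.coprime_two_right.2 hn))
          (orderOf_dvd_of_pow_eq_one hcn) (orderOf_dvd_of_pow_eq_one hi)
      rw [hc, inv_mul_eq_one] at this
      exact this.symm
  intro d hd
  obtain ⟨i, hi⟩ := hX d
  exact key i d hd hi

theorem odd_pow_eq_one {A : Subgroup (MulAut X)} {a : MulAut X} (ha : a ∈ A) :
    a ^ Nat.card A = 1 :=
  congrArg Subtype.val (pow_card_eq_one' (G := A) (x := ⟨a, ha⟩))

/-- Points fixed modulo the derived subgroup lie in it, when `X = [X, A]`. -/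
theorem mem_commutator_of_fixed_mod (hX : IsPGroup 2 X) (A : Subgroup (MulAut X))
    (hA : Odd (Nat.card A))
    (hXA : Subgroup.closure {g : X | ∃ φ ∈ A, ∃ x : X, g = x⁻¹ * φ x} = ⊤)
    {g : X} (hg : ∀ a ∈ A, g⁻¹ * a g ∈ commutator X) : g ∈ commutator X := by
  classical
  haveI : Finite (MulAut X) := Finite.of_injective (fun a => (a : X → X)) DFunLike.coe_injective
  letI := Fintype.ofFinite A
  let π : X →* Abelianization X := Abelianization.of
  let Nm : X →* Abelianization X := ∏ a : A, π.comp ((a : MulAut X).toMonoidHom)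
  have hNm : ∀ x, Nm x = ∏ a : A, π ((a : MulAut X) x) := fun x => by
    simp [Nm, MonoidHom.finsetProd_apply]
  have h1 : Subgroup.closure {g : X | ∃ φ ∈ A, ∃ x : X, g = x⁻¹ * φ x} ≤ Nm.ker := by
    rw [closure_le]
    rintro _ ⟨b, hb, x, rfl⟩
    have hinv : Nm (b x) = Nm x := by
      rw [hNm, hNm]
      exact Fintype.prod_equiv (Equiv.mulRight (⟨b, hb⟩ : A)) _ _ fun a => rfl
    show Nm (x⁻¹ * b x) = 1
    rw [map_mul, map_inv, hinv, inv_mul_cancel]
  have hfix : ∀ a : A, π ((a : MulAut X) g) = π g := by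
    intro a
    have h : π (g⁻¹ * (a : MulAut X) g) = 1 := by
      rw [← MonoidHom.mem_ker, Abelianization.ker_of]; exact hg a a.2
    rw [map_mul, map_inv, inv_mul_eq_one] at h
    exact h.symm
  have h2 : Nm g = 1 := h1 (hXA ▸ mem_top g)
  rw [hNm, Finset.prod_congr rfl (fun a _ => hfix a), Finset.prod_const,
    Finset.card_univ, ← Nat.card_eq_fintype_card] at h2
  obtain ⟨k, hk⟩ := hX g
  have h3 : π g ^ 2 ^ k = 1 := by rw [← map_pow, hk, map_one]
  have h4 : π g = 1 := by
    rw [← orderOf_eq_one_iff]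
    exact Nat.eq_one_of_dvd_coprimes (Nat.Coprime.pow_right k (Nat.coprime_two_right.2 hA))
      (orderOf_dvd_of_pow_eq_one h2) (orderOf_dvd_of_pow_eq_one h3)
  rwa [← MonoidHom.mem_ker, Abelianization.ker_of] at h4

end CfsgLib.PGroups.NoSCNThree
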