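import Cfsg.Agent.Lib.PGroups.NoSCNThree.Reduce
import Cfsg.Agent.Lib.PGroups.MacWilliams.Main
import Cfsg.Agent.Lib.PGroups.UniqueOrderP

/-!
# The special groups occurring
-/

set_option autoImplicit false
set_option linter.unusedSectionVars false
set_option linter.style.haveILetI false

namespace CfsgLib.PGroups.NoSCNThree

open Subgroup
open scoped commutatorElement

variable {X : Type*} [Group X] [Finite X]

/-- If the noncentral squares all coincide and there are at least eight cosets of the centre,
the group is abelian. -/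
theorem false_of_const_squares (hna : ¬ IsMulCommutative X)
    (h2 : ∀ z ∈ center X, z ^ 2 = 1) {c : X} (hc : c ∈ center X)
    (hall : ∀ x : X, x ∉ center X → x ^ 2 = c) (h8 : 8 ≤ (center X).index) : False := by
  classical
  have hcc : c * c = 1 := by rw [← pow_two]; exact h2 c hc
  have hcz : ∀ g : X, g * c = c * g := Subgroup.mem_center_iff.1 hc
  have key : ∀ u v : X, u ∉ center X → v ∉ center X → u * v ∉ center X → v * u = u * v * c := by
    intro u v hu hv huv
    have h1 : u * v * (u * v) = c := by rw [← pow_two]; exact hall _ huv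
    have h3 : v * u = u⁻¹ * c * v⁻¹ := by
      calc v * u = u⁻¹ * (u * v * (u * v)) * v⁻¹ := by group
        _ = u⁻¹ * c * v⁻¹ := by rw [h1]
    have hu' : u⁻¹ = u * c := inv_eq_of_mul_eq_one_right (by
      rw [← mul_assoc, ← pow_two, hall u hu, hcc])
    have hv' : v⁻¹ = v * c := inv_eq_of_mul_eq_one_right (by
      rw [← mul_assoc, ← pow_two, hall v hv, hcc])
    rw [h3, hu', hv', mul_assoc u c c, hcc, mul_one, ← mul_assoc]
  let π := QuotientGroup.mk' (center X)
  have hπ : ∀ g : X, π g = 1 ↔ g ∈ center X := QuotientGroup.eq_one_iff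
  letI := Fintype.ofFinite (X ⧸ center X)
  have hQ : 8 ≤ Fintype.card (X ⧸ center X) := by
    rwa [← Nat.card_eq_fintype_card, ← Subgroup.index_eq_card]
  have pick : ∀ F : Finset (X ⧸ center X), F.card < 8 → ∃ g : X, π g ∉ F := by
    intro F hF
    obtain ⟨q, -, hq⟩ := Finset.exists_mem_notMem_of_card_lt_card
      (show F.card < (Finset.univ : Finset (X ⧸ center X)).card by
        rw [Finset.card_univ]; omega)
    obtain ⟨g, rfl⟩ := QuotientGroup.mk'_surjective (center X) q
    exact ⟨g, hq⟩
  obtain ⟨u, hu⟩ := pick {1} (by simp)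
  obtain ⟨v, hv⟩ := pick {1, (π u)⁻¹} (Finset.card_le_two.trans_lt (by norm_num))
  obtain ⟨w, hw⟩ := pick {1, (π u)⁻¹, (π v)⁻¹, (π u * π v)⁻¹}
    (Finset.card_le_four.trans_lt (by norm_num))
  simp only [Finset.mem_insert, Finset.mem_singleton, not_or] at hu hv hw
  obtain ⟨hw1, hwu, hwv, hwuv⟩ := hw
  have n : ∀ g : X, π g ≠ 1 → g ∉ center X := fun g h hg => h ((hπ g).2 hg)
  have huv : u * v ∉ center X := n _ (by
    rw [map_mul]; exact fun h => hv.2 (eq_inv_of_mul_eq_one_right h))
  have huw : u * w ∉ center X := n _ (by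
    rw [map_mul]; exact fun h => hwu (eq_inv_of_mul_eq_one_right h))
  have hvw : v * w ∉ center X := n _ (by
    rw [map_mul]; exact fun h => hwv (eq_inv_of_mul_eq_one_right h))
  have huvw : u * (v * w) ∉ center X := n _ (by
    rw [map_mul, map_mul, ← mul_assoc]; exact fun h => hwuv (eq_inv_of_mul_eq_one_right h))
  have e1 := key u v (n _ hu) (n _ hv.1) huv
  have e2 := key u w (n _ hu) (n _ hw1) huw
  have e3 := key u (v * w) (n _ hu) hvw huvw
  have hc1 : c = 1 := by
    have : u * (v * w) = u * (v * w) * c := by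
      rw [← e3]
      calc u * (v * w) = u * v * c * (c * w) := by
            rw [mul_assoc (u * v), ← mul_assoc c, hcc, one_mul, mul_assoc]
        _ = v * u * (c * w) := by rw [e1]
        _ = v * (u * (w * c)) := by rw [hcz, mul_assoc v]
        _ = v * (w * u) := by rw [e2, mul_assoc u w c]
        _ = v * w * u := (mul_assoc _ _ _).symm
    exact (left_eq_mul.1 this)
  have hall' : ∀ x : X, x ^ 2 = 1 := fun x => by
    by_cases hx : x ∈ center X
    · exact h2 x hx
    · rw [hall x hx, hc1]
  exact hna ⟨⟨comm_of_sq_one hall'⟩⟩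

theorem not_isCyclic_center_quotient (hna : ¬ IsMulCommutative X) :
    ¬ IsCyclic (X ⧸ center X) := fun h => hna <|
  haveI := h
  MonoidHom.isMulCommutative_of_isCyclic_of_ker_le_center (QuotientGroup.mk' (center X))
    (le_of_eq (QuotientGroup.ker_mk' _))

/-- The group acts on the cosets of the centre. -/
@[instance_reducible]
def actCenter (A : Subgroup (MulAut X)) : MulAction A (X ⧸ center X) where
  smul a q := QuotientGroup.map (center X) (center X) (a : MulAut X).toMonoidHom
    (fun _ hx => map_mem_center (a : MulAut X) hx) q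
  one_smul q := by
    induction q using QuotientGroup.induction_on with
    | _ x => rfl
  mul_smul a b q := by
    induction q using QuotientGroup.induction_on with
    | _ x => rfl

/-- With at most eight cosets of the centre, the noncentral squares all coincide, provided the
action on the central involutions is trivial when there are four cosets. -/
theorem const_squares (hX : IsPGroup 2 X) (A : Subgroup (MulAut X)) (hA : Odd (Nat.card A))
    (hXA : Subgroup.closure {g : X | ∃ φ ∈ A, ∃ x : X, g = x⁻¹ * φ x} = ⊤)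
    (hcm : commutator X = center X) (h2 : ∀ z ∈ center X, z ^ 2 = 1)
    (hΦ : ∀ x : X, x ^ 2 ∈ center X) (hZ : Nat.card (center X) ≤ 4)
    (hidx : (center X).index = 8 ∨ ((center X).index = 4 ∧ Nat.card (center X) ≤ 2)) :
    ∃ c ∈ center X, ∀ x : X, x ∉ center X → x ^ 2 = c := by
  classical
  letI : MulAction A (X ⧸ center X) := actCenter A
  have hsm : ∀ (a : A) (x : X), a • (x : X ⧸ center X) = (((a : MulAut X) x : X) : X ⧸ center X) :=
    fun a x => rfl
  have hodd : ∀ q : X ⧸ center X, Odd ((MulAction.orbit A q).ncard) := fun q => by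
    rw [← MulAction.index_stabilizer]; exact hA.of_dvd_nat (Subgroup.index_dvd_card _)
  have horb : ∀ q : X ⧸ center X, q ≠ 1 → 3 ≤ (MulAction.orbit A q).ncard := by
    intro q hq
    obtain ⟨x, rfl⟩ := QuotientGroup.mk_surjective q
    by_contra hlt
    obtain ⟨j, hj⟩ := hodd (x : X ⧸ center X)
    have h1 : (MulAction.orbit A (x : X ⧸ center X)).ncard = 1 := by omega
    obtain ⟨w, hw⟩ := Set.ncard_eq_one.1 h1
    refine hq ((QuotientGroup.eq_one_iff x).2 (hcm ▸ mem_commutator_of_fixed_mod hX A hA hXA ?_))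
    intro a ha
    rw [hcm, ← QuotientGroup.eq_one_iff, QuotientGroup.mk_mul, QuotientGroup.mk_inv,
      inv_mul_eq_one]
    have h3 := MulAction.mem_orbit (x : X ⧸ center X) (⟨a, ha⟩ : A)
    have h4 := MulAction.mem_orbit_self (M := A) (x : X ⧸ center X)
    rw [hw, Set.mem_singleton_iff] at h3 h4
    exact h4.trans h3.symm
  have h1notmem : ∀ q : X ⧸ center X, q ≠ 1 → (1 : X ⧸ center X) ∉ MulAction.orbit A q := by
    intro q hq h
    obtain ⟨a, ha⟩ := h
    refine hq ((eq_inv_smul_iff.2 ha).trans ?_)
    rw [← QuotientGroup.mk_one, hsm, map_one]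
  have hQ : Nat.card (X ⧸ center X) ≤ 8 := by
    rw [← Subgroup.index_eq_card]; rcases hidx with h | ⟨h, -⟩ <;> omega
  have hdisj : ∀ q r : X ⧸ center X, r ∉ MulAction.orbit A q →
      Disjoint (MulAction.orbit A q) (MulAction.orbit A r) := by
    intro q r h
    rw [Set.disjoint_left]
    intro s hs hs'
    refine h ?_
    rw [← MulAction.orbit_eq_iff.2 hs, MulAction.orbit_eq_iff.2 hs']
    exact MulAction.mem_orbit_self r
  have htrans : ∀ q r : X ⧸ center X, q ≠ 1 → r ≠ 1 → r ∈ MulAction.orbit A q := by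
    intro q r hq hr
    by_contra hrq
    have hd := hdisj q r hrq
    obtain ⟨i, hi⟩ := hodd q
    obtain ⟨j, hj⟩ := hodd r
    have hsub : MulAction.orbit A q ∪ MulAction.orbit A r ⊆ ({1}ᶜ : Set (X ⧸ center X)) := by
      intro s hs h
      rw [Set.mem_singleton_iff] at h
      subst h
      rcases hs with h | h
      · exact h1notmem q hq h
      · exact h1notmem r hr h
    have hc1 : ({1}ᶜ : Set (X ⧸ center X)).ncard = Nat.card (X ⧸ center X) - 1 := by
      rw [Set.ncard_compl, Set.ncard_singleton]
    have hcard := Set.ncard_le_ncard hsub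
    rw [Set.ncard_union_eq hd, hc1] at hcard
    have := horb q hq
    have := horb r hr
    by_cases hall : MulAction.orbit A q ∪ MulAction.orbit A r = ({1}ᶜ : Set (X ⧸ center X))
    · have := congrArg Set.ncard hall
      rw [Set.ncard_union_eq hd, hc1] at this
      rcases hidx with h | ⟨h, -⟩ <;> rw [Subgroup.index_eq_card] at h <;> omega
    · obtain ⟨s, hs1, hs⟩ := Set.exists_of_ssubset (lt_of_le_of_ne hsub hall)
      rw [Set.mem_compl_iff, Set.mem_singleton_iff] at hs1
      rw [Set.mem_union, not_or] at hs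
      have hd2 : Disjoint (MulAction.orbit A q ∪ MulAction.orbit A r) (MulAction.orbit A s) :=
        Set.disjoint_union_left.2 ⟨hdisj q s hs.1, hdisj r s hs.2⟩
      have hsub2 : MulAction.orbit A q ∪ MulAction.orbit A r ∪ MulAction.orbit A s ⊆
          ({1}ᶜ : Set (X ⧸ center X)) := Set.union_subset hsub (by
        intro t ht h
        rw [Set.mem_singleton_iff] at h
        exact h1notmem s hs1 (h ▸ ht))
      have := Set.ncard_le_ncard hsub2
      rw [Set.ncard_union_eq hd2, Set.ncard_union_eq hd, hc1] at this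
      have := horb s hs1
      omega
  have hsq : ∀ x y : X, (x : X ⧸ center X) = y → x ^ 2 = y ^ 2 := by
    intro x y h
    obtain ⟨z, hz, rfl⟩ : ∃ z ∈ center X, y = x * z :=
      ⟨x⁻¹ * y, QuotientGroup.eq.1 h, (mul_inv_cancel_left _ _).symm⟩
    rw [Commute.mul_pow (Subgroup.mem_center_iff.1 hz x), h2 z hz, mul_one]
  obtain ⟨u, hu⟩ : ∃ u : X, u ∉ center X := by
    by_contra h
    push Not at h
    have : center X = ⊤ := eq_top_iff.2 fun x _ => h x
    rw [this, Subgroup.index_top] at hidx
    omega
  have hu1 : (u : X ⧸ center X) ≠ 1 := fun h => hu ((QuotientGroup.eq_one_iff u).1 h)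
  have hfix : ∀ a : A, (a : MulAut X) (u ^ 2) = u ^ 2 := by
    letI : MulAction A X := MulAction.compHom X A.subtype
    have hX' : ∀ (a : A) (y : X), a • y = (a : MulAut X) y := fun _ _ => rfl
    have hle : MulAction.stabilizer A (u : X ⧸ center X) ≤ MulAction.stabilizer A (u ^ 2) := by
      intro a ha
      rw [MulAction.mem_stabilizer_iff] at ha ⊢
      rw [hX', map_pow]
      exact hsq _ _ ((hsm a u).symm.trans ha)
    have hdvd := Subgroup.index_dvd_of_le hle
    rw [MulAction.index_stabilizer, MulAction.index_stabilizer] at hdvd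
    have hN : (MulAction.orbit A (u : X ⧸ center X)).ncard = (center X).index - 1 := by
      have : MulAction.orbit A (u : X ⧸ center X) = ({1}ᶜ : Set (X ⧸ center X)) := by
        ext s
        exact ⟨fun hs h => h1notmem _ hu1 (Set.mem_singleton_iff.1 h ▸ hs),
          fun hs => htrans _ _ hu1 hs⟩
      rw [this, Set.ncard_compl, Set.ncard_singleton, Subgroup.index_eq_card]
    have hZ' : (MulAction.orbit A (u ^ 2)).ncard ≤ Nat.card (center X) := by
      refine (Set.ncard_le_ncard (t := (center X : Set X)) ?_).trans_eq (Nat.card_coe_set_eq _).symm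
      rintro _ ⟨a, rfl⟩
      exact map_mem_center (a : MulAut X) (hΦ u)
    have hodd' : Odd (MulAction.orbit A (u ^ 2)).ncard := by
      rw [← MulAction.index_stabilizer]; exact hA.of_dvd_nat (Subgroup.index_dvd_card _)
    have h1 : (MulAction.orbit A (u ^ 2)).ncard = 1 := by
      obtain ⟨j, hj⟩ := hodd'
      rw [hN] at hdvd
      rcases hidx with h | ⟨h, hZ2⟩
      · rw [h] at hdvd
        rcases (Nat.dvd_prime (by norm_num)).1 hdvd with h' | h' <;> omega
      · omega
    obtain ⟨w, hw⟩ := Set.ncard_eq_one.1 h1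
    intro a
    have h3 := MulAction.mem_orbit (u ^ 2) a
    have h4 := MulAction.mem_orbit_self (M := A) (u ^ 2)
    rw [hw, Set.mem_singleton_iff] at h3 h4
    exact h3.trans h4.symm
  refine ⟨u ^ 2, hΦ u, fun x hx => ?_⟩
  obtain ⟨a, ha⟩ := htrans (u : X ⧸ center X) x hu1 (fun h => hx ((QuotientGroup.eq_one_iff x).1 h))
  rw [← hfix a, map_pow]
  exact hsq _ _ (((hsm a u).symm.trans ha).symm)

theorem card_center_of_index_four (hna : ¬ IsMulCommutative X)
    (hidx : (center X).index = 4) (h2 : ∀ z ∈ center X, z ^ 2 = 1)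
    (hcm : commutator X = center X) : Nat.card (center X) ≤ 2 := by
  classical
  let π := QuotientGroup.mk' (center X)
  have hπ : ∀ g : X, π g = 1 ↔ g ∈ center X := QuotientGroup.eq_one_iff
  obtain ⟨u, v, huv⟩ : ∃ u v : X, u * v ≠ v * u := by
    by_contra h; push Not at h; exact hna ⟨⟨h⟩⟩
  have hc : ∀ g h : X, ⁅g, h⁆ ∈ center X := fun g h => by
    rw [← hcm, _root_.commutator_def]; exact commutator_mem_commutator (mem_top g) (mem_top h)
  set c := ⁅u, v⁆ with hcdef
  have hcz : c ∈ center X := hc u v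
  haveI : (zpowers c).Normal := normal_of_le_center (zpowers_le.2 hcz)
  have hu : π u ≠ 1 := fun h => huv (Subgroup.mem_center_iff.1 ((hπ u).1 h) v).symm
  have hv : π v ≠ 1 := fun h => huv (Subgroup.mem_center_iff.1 ((hπ v).1 h) u)
  have huv' : π u ≠ π v := fun h => huv (by
    have hm : u⁻¹ * v ∈ center X := QuotientGroup.eq.1 h
    have e := Subgroup.mem_center_iff.1 hm u
    calc u * v = u * (u * (u⁻¹ * v)) := by group
      _ = u * (u⁻¹ * v * u) := by rw [e]
      _ = v * u := by group)
  have h3 : π u * π v ≠ 1 := fun h => huv (by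
    rw [← map_mul, hπ] at h
    exact ((mul_left_cancel ((Subgroup.mem_center_iff.1 h u).trans (mul_assoc u v u)))))
  letI := Fintype.ofFinite (X ⧸ center X)
  have hall : ∀ q : X ⧸ center X, q ∈ ({1, π u, π v, π u * π v} : Finset _) := by
    have : ({1, π u, π v, π u * π v} : Finset (X ⧸ center X)) = Finset.univ := by
      refine Finset.eq_univ_of_card _ ?_
      rw [← Nat.card_eq_fintype_card, ← Subgroup.index_eq_card, hidx]
      have h4 : π u * π v ≠ π u := fun h => hv (mul_eq_left.1 h)
      have h5 : π u * π v ≠ π v := fun h => hu (mul_eq_right.1 h)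
      simp [hu.symm, hv.symm, huv', h3.symm, h4.symm, h5.symm]
    intro q; rw [this]; exact Finset.mem_univ q
  let π' := QuotientGroup.mk' (zpowers c)
  have hcomm : Commute (π' u) (π' v) := by
    rw [← commutatorElement_eq_one_iff_commute, ← map_commutatorElement]
    exact (QuotientGroup.eq_one_iff c).2 (mem_zpowers c)
  have hz : ∀ z ∈ center X, ∀ g : X, Commute (π' z) (π' g) := fun z hz g =>
    (Commute.map ((Subgroup.mem_center_iff.1 hz g).symm : Commute z g) π')
  have hrep : ∀ g : X, ∀ h ∈ ({π' u, π' v} : Set (X ⧸ zpowers c)), Commute (π' g) h := by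
    intro g
    have hg := hall (π g)
    simp only [Finset.mem_insert, Finset.mem_singleton, ← map_mul] at hg
    intro h hh
    have key : ∀ r : X, π g = π r → Commute (π' r) h → Commute (π' g) h := by
      intro r hr hc'
      have hm : r⁻¹ * g ∈ center X := QuotientGroup.eq.1 hr.symm
      have e : π' g = π' r * π' (r⁻¹ * g) := by rw [← map_mul, mul_inv_cancel_left]
      rw [e]
      refine hc'.mul_left ?_
      rcases hh with rfl | rfl <;> exact hz _ hm _
    rcases hh with rfl | rfl <;> rcases hg with e | e | e | e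
    · exact key 1 (e.trans (map_one π).symm) (by rw [map_one]; exact Commute.one_left _)
    · exact key u e (Commute.refl _)
    · exact key v e hcomm.symm
    · exact key _ e (by rw [map_mul]; exact (Commute.refl _).mul_left hcomm.symm)
    · exact key 1 (e.trans (map_one π).symm) (by rw [map_one]; exact Commute.one_left _)
    · exact key u e hcomm
    · exact key v e (Commute.refl _)
    · exact key _ e (by rw [map_mul]; exact hcomm.mul_left (Commute.refl _))
  have habel : ∀ g h : X, Commute (π' g) (π' h) := by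
    intro g h
    have hh := hall (π h)
    simp only [Finset.mem_insert, Finset.mem_singleton, ← map_mul] at hh
    have key : ∀ r : X, π h = π r → Commute (π' g) (π' r) → Commute (π' g) (π' h) := by
      intro r hr hc'
      have hm : r⁻¹ * h ∈ center X := QuotientGroup.eq.1 hr.symm
      have e : π' h = π' r * π' (r⁻¹ * h) := by rw [← map_mul, mul_inv_cancel_left]
      rw [e]
      exact hc'.mul_right (hz _ hm g).symm
    rcases hh with e | e | e | e
    · exact key 1 (e.trans (map_one π).symm) (by rw [map_one]; exact Commute.one_right _)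
    · exact key u e (hrep g _ (Or.inl rfl))
    · exact key v e (hrep g _ (Or.inr rfl))
    · exact key _ e (by rw [map_mul]; exact (hrep g _ (Or.inl rfl)).mul_right (hrep g _ (Or.inr rfl)))
  have hle : center X ≤ zpowers c := by
    rw [← hcm, _root_.commutator_def, Subgroup.commutator_le]
    intro g _ h _
    rw [← QuotientGroup.eq_one_iff]
    show π' ⁅g, h⁆ = 1
    rw [map_commutatorElement, commutatorElement_eq_one_iff_commute]
    exact habel g h
  refine (Subgroup.card_le_of_le hle).trans ?_
  rw [Nat.card_zpowers]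
  exact Nat.le_of_dvd (by norm_num) (orderOf_dvd_of_pow_eq_one (h2 c hcz))

theorem eleven_involutions (h8 : NoE8 X) (hna : ¬ IsMulCommutative X)
    (hcm : commutator X = center X) (h2 : ∀ z ∈ center X, z ^ 2 = 1)
    (hΦ : ∀ x : X, x ^ 2 ∈ center X) (hZ : Nat.card (center X) = 2) (hX : Nat.card X = 32) :
    Nat.card {x : X // orderOf x = 2} = 11 := by
  classical
  haveI : Fact (Nat.Prime 2) := ⟨Nat.prime_two⟩
  obtain ⟨z, hz, hz1, hZall⟩ : ∃ z ∈ center X, z ≠ 1 ∧ ∀ y ∈ center X, y = 1 ∨ y = z := by
    obtain ⟨a, b, hab, hu⟩ := Nat.card_eq_two_iff.1 hZ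
    rcases (hu ▸ Set.mem_univ (1 : center X) : (1 : center X) ∈ ({a, b} : Set (center X))) with h | h
    · refine ⟨b, b.2, fun h' => hab ((h.symm).trans (Subtype.ext h'.symm)), fun y hy => ?_⟩
      rcases (hu ▸ Set.mem_univ (⟨y, hy⟩ : center X) :
        (⟨y, hy⟩ : center X) ∈ ({a, b} : Set (center X))) with e | e
      · exact Or.inl (congrArg Subtype.val (e.trans h.symm))
      · exact Or.inr (congrArg Subtype.val e)
    · rw [Set.mem_singleton_iff] at h
      refine ⟨a, a.2, fun h' => hab ((Subtype.ext h' : a = 1).trans h), fun y hy => ?_⟩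
      rcases (hu ▸ Set.mem_univ (⟨y, hy⟩ : center X) :
        (⟨y, hy⟩ : center X) ∈ ({a, b} : Set (center X))) with e | e
      · exact Or.inr (congrArg Subtype.val e)
      · exact Or.inl (congrArg Subtype.val (e.trans h.symm))
  have hzz : z * z = 1 := by rw [← pow_two]; exact h2 z hz
  have hzc : ∀ g : X, g * z = z * g := Subgroup.mem_center_iff.1 hz
  have hidx : (center X).index = 16 := by
    have := Subgroup.card_mul_index (center X); rw [hZ, hX] at this; omega
  have hcz : ∀ g h : X, ⁅g, h⁆ ∈ center X := fun g h => by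
    rw [← hcm, _root_.commutator_def]; exact commutator_mem_commutator (mem_top g) (mem_top h)
  obtain ⟨p, hp, hp2⟩ : ∃ p, p ∉ center X ∧ p ^ 2 = 1 := by
    by_contra h
    push Not at h
    exact false_of_const_squares hna h2 hz
      (fun x hx => (hZall _ (hΦ x)).resolve_left (h x hx)) (by omega)
  have hpp : p * p = 1 := by rw [← pow_two]; exact hp2
  set C := centralizer ({p} : Set X) with hC
  have hmC : ∀ x : X, x ∈ C ↔ x * p = p * x := fun x => mem_centralizer_singleton_iff
  have hout : ∀ x : X, x ∉ C → x * p = z * (p * x) := by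
    intro x hx
    have e : x * p = ⁅x, p⁆ * (p * x) := by rw [commutatorElement_def]; group
    rcases hZall _ (hcz x p) with h | h
    · exact absurd ((hmC x).2 (by rw [e, h, one_mul])) hx
    · rw [e, h]
  obtain ⟨a, ha⟩ : ∃ a : X, a ∉ C := by
    by_contra h; push Not at h
    exact hp (Subgroup.mem_center_iff.2 fun g => (hmC g).1 (h g))
  have hC2 : C.index = 2 := by
    rw [Subgroup.index_eq_two_iff]
    refine ⟨a, fun b => ?_⟩
    by_cases hb : b ∈ C
    · exact Or.inr ⟨hb, fun h => ha (by simpa using mul_mem (inv_mem hb) h)⟩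
    · refine Or.inl ⟨(hmC _).2 ?_, hb⟩
      calc b * a * p = b * (z * (p * a)) := by rw [mul_assoc, hout a ha]
        _ = z * (b * p) * a := by rw [← mul_assoc b z, hzc b]; simp only [mul_assoc]
        _ = z * (z * (p * b)) * a := by rw [hout b hb]
        _ = p * (b * a) := by rw [← mul_assoc z z, hzz, one_mul, mul_assoc]
  have hC16 : Nat.card C = 16 := by
    have := Subgroup.card_mul_index C; rw [hC2, hX] at this; omega
  -- the four-group generated by the centre and `p`
  set E := center X ⊔ zpowers p with hE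
  haveI : E.Normal := sup_zpowers_normal fun x => hcz x p
  have hEmem : ∀ {x : X}, x ∈ E → x = 1 ∨ x = z ∨ x = p ∨ x = z * p := by
    intro x hx
    rcases mem_sup_zpowers hp2 hx with h | ⟨y, hy, rfl⟩
    · rcases hZall x h with e | e
      exacts [Or.inl e, Or.inr (Or.inl e)]
    · rcases hZall y hy with rfl | rfl
      exacts [Or.inr (Or.inr (Or.inl (one_mul p))), Or.inr (Or.inr (Or.inr rfl))]
  have hEab : IsMulCommutative E := isMulCommutative_sup_zpowers inferInstance
    (mem_centralizer_iff.2 fun y hy => (Subgroup.mem_center_iff.1 hy p).symm)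
  have hE2 : ∀ e ∈ E, e ^ 2 = 1 := by
    intro e he
    rcases mem_sup_zpowers hp2 he with h | ⟨y, hy, rfl⟩
    · exact h2 e h
    · rw [Commute.mul_pow (Subgroup.mem_center_iff.1 hy p).symm, h2 y hy, hp2, one_mul]
  have hE4 : 4 ≤ Nat.card E := by
    have h1 : 2 ∣ Nat.card E := hZ ▸ Subgroup.card_dvd_of_le le_sup_left
    have h3 : Nat.card E ≠ 2 := fun h => hp (by
      have := Subgroup.eq_of_le_of_card_ge (le_sup_left (a := center X) (b := zpowers p))
        (by rw [hZ]; exact h.le)
      exact this ▸ mem_sup_right (mem_zpowers p))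
    have : 0 < Nat.card E := Nat.card_pos
    omega
  set S : Set X := {x | x ^ 2 = 1 ∧ x ≠ 1} with hS
  have hzp : z * p ≠ 1 := fun h => hp (by rw [eq_inv_of_mul_eq_one_right h]; exact inv_mem hz)
  have hSin : S ∩ C = {z, p, z * p} := by
    ext x
    constructor
    · rintro ⟨⟨hx2, hx1⟩, hxC⟩
      have hxC' : x * p = p * x := (hmC x).1 hxC
      have hxE : x ∈ E := by
        refine mem_of_involution h8 hEab hE2 hE4 hx2 (fun e he => ?_)
          (fun g => mem_sup_left (hcz g x))
        have hle : E ≤ centralizer ({x} : Set X) := sup_le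
          (fun y hy => mem_centralizer_singleton_iff.2 (Subgroup.mem_center_iff.1 hy x).symm)
          (zpowers_le.2 (mem_centralizer_singleton_iff.2 hxC'.symm))
        exact mem_centralizer_singleton_iff.1 (hle he)
      rcases hEmem hxE with e | e | e | e
      · exact absurd e hx1
      · exact Or.inl e
      · exact Or.inr (Or.inl e)
      · exact Or.inr (Or.inr e)
    · rintro (rfl | rfl | rfl)
      · exact ⟨⟨h2 _ hz, hz1⟩, (hmC _).2 (hzc p).symm⟩
      · exact ⟨⟨hp2, fun h => hp (h ▸ one_mem _)⟩, (hmC _).2 rfl⟩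
      · refine ⟨⟨by rw [Commute.mul_pow (hzc p).symm, h2 z hz, hp2, one_mul], hzp⟩,
          (hmC _).2 ?_⟩
        rw [mul_assoc, ← mul_assoc p z, hzc p, mul_assoc]
  have h3 : (S ∩ C).ncard = 3 := by
    rw [hSin, Set.ncard_eq_three]
    refine ⟨z, p, z * p, fun h => hp (h ▸ hz), fun h => hp ?_, fun h => hz1 (mul_eq_right.1 h.symm),
      rfl⟩
    rw [mul_eq_left.1 h.symm]; exact one_mem _
  have hsqp : ∀ x : X, x ∉ C → (p * x) ^ 2 = z * x ^ 2 := by
    intro x hx
    rw [pow_two, pow_two, mul_assoc p, ← mul_assoc x p, hout x hx, ← mul_assoc p, ← mul_assoc p,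
      hzc p, mul_assoc z p, ← mul_assoc p p, hpp, one_mul, mul_assoc]
  have hout' : ∀ x : X, x ∉ C → p * x ∉ C := fun x hx h => hx (by
    have := mul_mem ((hmC p).2 rfl : p ∈ C) h
    rwa [← mul_assoc, hpp, one_mul] at this)
  have heq : (S \ C).ncard = ((C : Set X)ᶜ \ S).ncard := by
    have himg : (fun x => p * x) '' (S \ C) = (C : Set X)ᶜ \ S := by
      ext y
      constructor
      · rintro ⟨x, ⟨⟨hx2, -⟩, hxC⟩, rfl⟩
        exact ⟨hout' x hxC, fun h => hz1 (by rw [← h.1, hsqp x hxC, hx2, mul_one])⟩
      · rintro ⟨hyC, hyS⟩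
        refine ⟨p * y, ⟨⟨?_, fun h => hout' y hyC (h ▸ one_mem C)⟩, hout' y hyC⟩,
          by simp only [← mul_assoc, hpp, one_mul]⟩
        rcases hZall _ (hΦ y) with h | h
        · exact absurd ⟨h, fun e => hyC (e ▸ one_mem C)⟩ hyS
        · rw [hsqp y hyC, h, hzz]
    rw [← himg, Set.ncard_image_of_injective _ (mul_right_injective p)]
  have hCc : ((C : Set X)ᶜ).ncard = 16 := by
    rw [Set.ncard_compl, ← Nat.card_coe_set_eq, SetLike.coe_sort_coe, hC16, hX]
  have hsplit : ((C : Set X)ᶜ ∩ S).ncard + ((C : Set X)ᶜ \ S).ncard = ((C : Set X)ᶜ).ncard :=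
    Set.ncard_inter_add_ncard_sdiff_eq_ncard _ _
  have hsplit2 : (S ∩ C).ncard + (S \ C).ncard = S.ncard :=
    Set.ncard_inter_add_ncard_sdiff_eq_ncard _ _
  have hint : (C : Set X)ᶜ ∩ S = S \ C := by rw [Set.inter_comm]; rfl
  rw [hint, ← heq, hCc] at hsplit
  rw [h3] at hsplit2
  have hcount : Nat.card {x : X // orderOf x = 2} = S.ncard := by
    rw [← Nat.card_coe_set_eq]
    exact Nat.card_congr (Equiv.subtypeEquivRight fun x => orderOf_eq_prime_iff)
  omega

/-- The classification. -/
theorem classification (hX : IsPGroup 2 X) (h8 : NoE8 X) (hna : ¬ IsMulCommutative X)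
    (A : Subgroup (MulAut X)) (hA : Odd (Nat.card A))
    (hXA : Subgroup.closure {g : X | ∃ φ ∈ A, ∃ x : X, g = x⁻¹ * φ x} = ⊤) :
    Nonempty (X ≃* QuaternionGroup 2) ∨
      (Cfsg.IsSpecial 2 X ∧ Nat.card X = 64 ∧ Nat.card {x : X // orderOf x = 2} = 3 ∧
        ∀ x : X, orderOf x = 2 → x ∈ Subgroup.center X) ∨
      (Cfsg.IsExtraspecial 2 X ∧ Nat.card X = 32 ∧ Nat.card {x : X // orderOf x = 2} = 11) := by
  classical
  haveI : Fact (Nat.Prime 2) := ⟨Nat.prime_two⟩
  obtain ⟨hsp, h2, hZ⟩ := isSpecial_of_not_scn3 hX h8 hna A hA hXA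
  have hcm := hsp.2.2
  have hΦ : ∀ x : X, x ^ 2 ∈ center X := fun x => hsp.2.1 ▸ pow_mem_frattini hX x
  have hidx16 : (center X).index ≤ 16 := hsp.2.1 ▸
    MacWilliams.index_frattini_le_sixteen hX h8 (MonoidHom.id X) fun _ _ h => h
  obtain ⟨j, hj⟩ := index_eq_pow hX (center X)
  obtain ⟨i, hi⟩ := card_subgroup_eq_pow hX (center X)
  have hj4 : j ≤ 4 := by
    by_contra h
    have : 2 ^ 5 ≤ 2 ^ j := Nat.pow_le_pow_right (by norm_num) (by omega)
    omega
  have hi2 : i ≤ 2 := by
    by_contra h
    have : 2 ^ 3 ≤ 2 ^ i := Nat.pow_le_pow_right (by norm_num) (by omega)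
    omega
  have hi0 : i ≠ 0 := fun h => hna ⟨⟨fun a b =>
    commutatorElement_eq_one_iff_commute.1 (by
      have h1 : center X = ⊥ := Subgroup.card_eq_one.1 (by rw [hi, h, pow_zero])
      exact Subgroup.mem_bot.1 (h1 ▸ hcm ▸
        commutator_mem_commutator (mem_top a) (mem_top b)))⟩⟩
  have hj1 : 2 ≤ j := by
    by_contra h
    refine not_isCyclic_center_quotient hna ?_
    refine isCyclic_of_card_dvd_prime (p := 2) ?_
    rw [← Subgroup.index_eq_card, hj]
    interval_cases j <;> norm_num
  have hcardX : Nat.card X = 2 ^ (i + j) := by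
    rw [← Subgroup.card_mul_index (center X), hi, hj, pow_add]
  interval_cases j
  · -- four cosets
    left
    have hle := card_center_of_index_four hna hj h2 hcm
    have hi1 : i = 1 := by
      interval_cases i <;> omega
    subst hi1
    obtain ⟨c, hc, hall⟩ := const_squares hX A hA hXA hcm h2 hΦ hZ (Or.inr ⟨hj, hle⟩)
    have hc1 : c ≠ 1 := fun h => hna ⟨⟨comm_of_sq_one fun x => by
      by_cases hx : x ∈ center X
      · exact h2 x hx
      · rw [hall x hx, h]⟩⟩
    have huniq : ∀ y : X, y ^ 2 = 1 → y ∈ zpowers c := by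
      intro y hy
      have hyZ : y ∈ center X := by
        by_contra h; exact hc1 ((hall y h).symm.trans hy)
      have heq : zpowers c = center X := Subgroup.eq_of_le_of_card_ge (zpowers_le.2 hc) (by
        rw [hi, Nat.card_zpowers, orderOf_eq_prime (h2 c hc) hc1, pow_one])
      rwa [heq]
    rcases isCyclic_or_quaternion_of_unique hX (h2 c hc) huniq with h | ⟨-, n, -, ⟨e⟩⟩
    · haveI := h
      exact absurd (inferInstance : IsMulCommutative X) hna
    · haveI : NeZero (2 ^ n) := ⟨by positivity⟩
      have hcard := Nat.card_congr e.toEquiv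
      rw [hcardX, Nat.card_eq_fintype_card, QuaternionGroup.card] at hcard
      have hn : 2 ^ n = 2 := by omega
      have hn1 : n = 1 := Nat.pow_right_injective le_rfl (hn.trans (pow_one 2).symm)
      subst hn1
      exact ⟨e⟩
  · -- eight cosets
    exfalso
    obtain ⟨c, hc, hall⟩ := const_squares hX A hA hXA hcm h2 hΦ hZ (Or.inl hj)
    exact false_of_const_squares hna h2 hc hall (by rw [hj]; norm_num)
  · -- sixteen cosets
    right
    obtain rfl | rfl : i = 1 ∨ i = 2 := by omega
    · right
      exact ⟨⟨hsp, hi.trans (pow_one 2)⟩, hcardX,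
        eleven_involutions h8 hna hcm h2 hΦ (hi.trans (pow_one 2)) hcardX⟩
    · left
      have hinv : ∀ x : X, x ^ 2 = 1 → x ∈ center X := fun x hx =>
        mem_of_involution h8 inferInstance h2 (by rw [hi]; norm_num) hx
          (fun e he => (Subgroup.mem_center_iff.1 he x).symm)
          (fun g => hcm ▸ commutator_mem_commutator (mem_top g) (mem_top x))
      refine ⟨hsp, hcardX, ?_, fun x hx => hinv x (orderOf_eq_prime_iff.1 hx).1⟩
      have hset : {x : X | orderOf x = 2} = (center X : Set X) \ {1} := by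
        ext x
        rw [Set.mem_ofPred_eq, orderOf_eq_prime_iff]
        exact ⟨fun h => ⟨hinv x h.1, h.2⟩, fun h => ⟨h2 x h.1, h.2⟩⟩
      show Nat.card {x : X | orderOf x = 2} = 3
      rw [Nat.card_coe_set_eq, hset, Set.ncard_sdiff (by simp), Set.ncard_singleton,
        ← Nat.card_coe_set_eq, SetLike.coe_sort_coe, hi]
      rfl

end CfsgLib.PGroups.NoSCNThree
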