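import Cfsg.Agent.Lib.PGroups.NoSCNThree.Layer

/-!
# A maximal characteristic abelian subgroup above a moved central four-group
-/

set_option autoImplicit false
set_option linter.unusedSectionVars false
set_option linter.style.haveILetI false

namespace CfsgLib.PGroups.NoSCNThree

open Subgroup
open scoped commutatorElement

variable {X : Type*} [Group X] [Finite X]

/-- The standing data: `B` is a maximal characteristic abelian subgroup containing the moved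
central four-group, of exponent `2 ^ k`. -/
structure Tower (A : Subgroup (MulAut X)) extends Moved A where
  two : IsPGroup 2 X
  noE8 : NoE8 X
  odd : Odd (Nat.card A)
  gen : Subgroup.closure {g : X | ∃ φ ∈ A, ∃ x : X, g = x⁻¹ * φ x} = ⊤
  B : Subgroup X
  char : B.Characteristic
  comm : ∀ a ∈ B, ∀ b ∈ B, a * b = b * a
  le : omegaCenter X ≤ B
  max : ∀ D : Subgroup X, D.Characteristic → IsMulCommutative D → B ≤ D → D ≤ B
  k : ℕ
  exp : ∀ b ∈ B, b ^ 2 ^ k = 1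
  sharp : ∃ b ∈ B, b ^ 2 ^ (k - 1) ≠ 1

namespace Tower

variable {A : Subgroup (MulAut X)} (T : Tower A)

instance : T.B.Characteristic := T.char

theorem mem_E {b : X} (hb : b ∈ T.B) (h2 : b ^ 2 = 1) : b ∈ omegaCenter X := by
  let W : Subgroup X :=
    { carrier := {b | b ∈ T.B ∧ b ^ 2 = 1}
      one_mem' := ⟨one_mem _, one_pow 2⟩
      mul_mem' := fun {a b} ha hb => ⟨mul_mem ha.1 hb.1, by
        rw [Commute.mul_pow (T.comm a ha.1 b hb.1), ha.2, hb.2, one_mul]⟩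
      inv_mem' := fun {a} ha => ⟨inv_mem ha.1, by rw [inv_pow, ha.2, inv_one]⟩ }
  have hW : W.Normal := ⟨fun w hw g => ⟨(inferInstance : T.B.Normal).conj_mem w hw.1 g, by
    rw [conj_pow, hw.2, mul_one, mul_inv_cancel]⟩⟩
  have hle : omegaCenter X ≤ W := fun e he => ⟨T.le he, he.2⟩
  have h4 := T.noE8 W hW ⟨⟨fun a b => Subtype.ext (T.comm a a.2.1 b b.2.1)⟩⟩ fun _ h => h.2
  have := Subgroup.eq_of_le_of_card_ge hle
    (h4.trans (T.toMoved.four_le T.noE8 T.odd))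
  exact this ▸ (⟨hb, h2⟩ : b ∈ W)

include T in
theorem central {e : X} (he : e ∈ omegaCenter X) (g : X) : g * e = e * g :=
  Subgroup.mem_center_iff.1 he.1 g

include T in
theorem mul_self {e : X} (he : e ∈ omegaCenter X) : e * e = 1 := by rw [← pow_two, he.2]

include T in
theorem inv_eq {e : X} (he : e ∈ omegaCenter X) : e⁻¹ = e :=
  inv_eq_of_mul_eq_one_right (T.mul_self he)

theorem fixed {e : X} (he : e ∈ omegaCenter X) (h : T.φ e = e) : e = 1 :=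
  T.toMoved.fixed T.noE8 T.odd he h

theorem cases {e : X} (he : e ∈ omegaCenter X) (he1 : e ≠ 1) {x : X} (hx : x ∈ omegaCenter X) :
    x = 1 ∨ x = e ∨ x = T.φ e ∨ x = T.φ (T.φ e) :=
  T.toMoved.cases T.noE8 T.odd he he1 hx

theorem cube {e : X} (he : e ∈ omegaCenter X) : T.φ (T.φ (T.φ e)) = e :=
  (T.toMoved.prod T.noE8 T.odd he).2

theorem phi_phi {e : X} (he : e ∈ omegaCenter X) : T.φ (T.φ e) = e * T.φ e := by
  have h := (T.toMoved.prod T.noE8 T.odd he).1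
  have h' := eq_inv_of_mul_eq_one_right h
  rwa [T.inv_eq (mul_mem he (map_mem_omegaCenter _ he))] at h'

theorem one_le_k : 1 ≤ T.k := by
  by_contra h
  obtain ⟨b, hb, hb1⟩ := T.sharp
  have h' := T.exp b hb
  rw [show T.k = 0 by omega, pow_zero, pow_one] at h'
  exact hb1 (by rw [h', one_pow])

theorem exists_root_E {i : ℕ} (hi : i + 1 ≤ T.k) {e : X} (he : e ∈ omegaCenter X) :
    ∃ b ∈ T.B, b ^ 2 ^ i = e := by
  obtain ⟨b, hb, hb1⟩ := T.sharp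
  set d := b ^ 2 ^ (T.k - 1) with hd
  have hdE : d ∈ omegaCenter X := by
    refine T.mem_E (pow_mem hb _) ?_
    rw [hd, ← pow_mul, ← pow_succ, show T.k - 1 + 1 = T.k by have := T.one_le_k; omega]
    exact T.exp b hb
  have key : ∀ c ∈ T.B, c ^ 2 ^ (T.k - 1) = e → ∃ b ∈ T.B, b ^ 2 ^ i = e := fun c hc h =>
    ⟨c ^ 2 ^ (T.k - 1 - i), pow_mem hc _, by
      rw [← pow_mul, ← pow_add, show T.k - 1 - i + i = T.k - 1 by omega, h]⟩
  rcases T.cases hdE hb1 he with h | h | h | h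
  · exact ⟨1, one_mem _, by rw [one_pow, h]⟩
  · exact key b hb h.symm
  · exact key (T.φ b) (map_mem_of_char _ _ hb) (by rw [← map_pow, ← hd, h])
  · exact key (T.φ (T.φ b)) (map_mem_of_char _ _ (map_mem_of_char _ _ hb))
      (by rw [← map_pow, ← map_pow, ← hd, h])

/-- Elements of order dividing `2 ^ i`, `i < k`, are squares. -/
theorem exists_root : ∀ i : ℕ, i + 1 ≤ T.k → ∀ x ∈ T.B, x ^ 2 ^ i = 1 →
    ∃ y ∈ T.B, y ^ 2 = x := by
  intro i
  induction i with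
  | zero =>
    intro _ x _ hx
    rw [pow_zero, pow_one] at hx
    exact ⟨1, one_mem _, by rw [one_pow, hx]⟩
  | succ i ih =>
    intro hi x hx hxi
    have he : x ^ 2 ^ i ∈ omegaCenter X := T.mem_E (pow_mem hx _) (by
      rw [← pow_mul, ← pow_succ]; exact hxi)
    obtain ⟨c, hc, hce⟩ := T.exists_root_E hi he
    have hcc : x ^ 2 ^ i = (c ^ 2) ^ 2 ^ i := by rw [← pow_mul, ← pow_succ', hce]
    obtain ⟨y, hy, hy2⟩ := ih (by omega) (x * (c ^ 2)⁻¹) (mul_mem hx (inv_mem (pow_mem hc 2))) (by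
      rw [Commute.mul_pow (T.comm _ hx _ (inv_mem (pow_mem hc 2))), inv_pow, ← hcc,
        mul_inv_cancel])
    exact ⟨y * c, mul_mem hy hc, by
      rw [Commute.mul_pow (T.comm y hy c hc), hy2, inv_mul_cancel_right]⟩

theorem br_mul {g b c : X} (hb : b ∈ T.B) (hc : c ∈ T.B) :
    ⁅g, b * c⁆ = ⁅g, b⁆ * ⁅g, c⁆ := by
  have hgc : ⁅g, c⁆ ∈ T.B := by
    rw [commutatorElement_def]
    exact mul_mem ((inferInstance : T.B.Normal).conj_mem c hc g) (inv_mem hc)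
  rw [commutator_right_mul, T.comm b hb _ hgc, mul_inv_cancel_right]

theorem br_mem {g b : X} (hb : b ∈ T.B) : ⁅g, b⁆ ∈ T.B := by
  rw [commutatorElement_def]
  exact mul_mem ((inferInstance : T.B.Normal).conj_mem b hb g) (inv_mem hb)

theorem br_sq {g b : X} (hb : b ∈ T.B) : ⁅g, b⁆ ^ 2 = ⁅g, b ^ 2⁆ := by
  rw [pow_two, pow_two, T.br_mul hb hb]

theorem br_sq_left {g b : X} : ⁅g ^ 2, b⁆ = ⁅g, ⁅g, b⁆⁆ * ⁅g, b⁆ * ⁅g, b⁆ := by
  simp only [pow_two, commutatorElement_def]; group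

/-- `g` centralises the elements of `B` of order dividing `2 ^ i`. -/
def Cen (i : ℕ) (g : X) : Prop := ∀ b ∈ T.B, b ^ 2 ^ i = 1 → ⁅g, b⁆ = 1

theorem cen_mono {i j : ℕ} (hij : i ≤ j) {g : X} (h : T.Cen j g) : T.Cen i g := fun b hb hbi =>
  h b hb (by
    obtain ⟨d, rfl⟩ := Nat.exists_eq_add_of_le hij
    rw [pow_add, pow_mul, hbi, one_pow])

theorem cen_one (g : X) : T.Cen 1 g := fun b hb hb2 =>
  commutatorElement_eq_one_iff_commute.2 (T.central (T.mem_E hb (by rwa [pow_one] at hb2)) g)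

theorem cen_congr {i : ℕ} {g : X} (hg : T.Cen i g) {b b' : X} (hb : b ∈ T.B) (hb' : b' ∈ T.B)
    (h : b ^ 2 ^ i = b' ^ 2 ^ i) : ⁅g, b⁆ = ⁅g, b'⁆ := by
  have hd : b * b'⁻¹ ∈ T.B := mul_mem hb (inv_mem hb')
  have h1 := hg _ hd (by
    rw [Commute.mul_pow (T.comm b hb _ (inv_mem hb')), inv_pow, h, mul_inv_cancel])
  have h2 := T.br_mul hd hb' (g := g)
  rwa [inv_mul_cancel_right, h1, one_mul] at h2

theorem br_mem_E {i : ℕ} {g : X} (hg : T.Cen i g) {b : X} (hb : b ∈ T.B)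
    (h : b ^ 2 ^ (i + 1) = 1) : ⁅g, b⁆ ∈ omegaCenter X := by
  refine T.mem_E (T.br_mem hb) ?_
  rw [T.br_sq hb]
  exact hg _ (pow_mem hb 2) (by rw [← pow_mul, ← pow_succ']; exact h)

theorem mem_of_cen_k {g : X} (hcent : centralizer (T.B : Set X) = T.B) (hg : T.Cen T.k g) :
    g ∈ T.B := by
  rw [← hcent]
  exact mem_centralizer_iff.2 fun b hb =>
    (commutatorElement_eq_one_iff_commute.1 (hg b hb (T.exp b hb))).eq.symm

/-- `B` is self-centralising when its exponent is at least four. -/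
theorem centralizer_eq (hk : 2 ≤ T.k) : centralizer (T.B : Set X) = T.B := by
  by_contra hne
  have hBC : T.B ≤ centralizer (T.B : Set X) := fun b hb =>
    mem_centralizer_iff.2 fun a ha => T.comm a ha b hb
  haveI : (centralizer (T.B : Set X)).Characteristic := inferInstance
  set C := centralizer (T.B : Set X) with hC
  set U := layer T.B C with hU
  haveI : U.Characteristic := layer_characteristic
  obtain ⟨u₀, hu₀, hu₀B⟩ := exists_mem_layer T.two (lt_of_le_of_ne hBC (Ne.symm hne))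
  have hcomB : ∀ u ∈ U, ∀ b ∈ T.B, b * u = u * b := fun u hu b hb =>
    mem_centralizer_iff.1 (mem_layer.1 hu).1 b hb
  have hsqU : ∀ u ∈ U, u ^ 2 ∈ T.B := fun u hu => (mem_layer.1 hu).2.1
  have hsd : ∀ u ∈ U, u ^ 2 ^ T.k = (u ^ 2) ^ 2 ^ (T.k - 1) := fun u _ => by
    rw [← pow_mul, ← pow_succ', show T.k - 1 + 1 = T.k by omega]
  have hsE : ∀ u ∈ U, u ^ 2 ^ T.k ∈ omegaCenter X := fun u hu => by
    rw [hsd u hu]
    refine T.mem_E (pow_mem (hsqU u hu) _) ?_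
    rw [← pow_mul, ← pow_succ, show T.k - 1 + 1 = T.k by omega]
    exact T.exp _ (hsqU u hu)
  -- elements of order two modulo the squares of B lie in B
  have hker : ∀ u ∈ U, u ^ 2 ^ T.k = 1 → u ∈ T.B := by
    intro u hu h1
    obtain ⟨v, hv, hv2⟩ :=
      T.exists_root (T.k - 1) (by omega) (u ^ 2) (hsqU u hu) (by rw [← hsd u hu, h1])
    set t := u * v⁻¹ with ht
    have htu : t ∈ U :=
      mul_mem hu (mem_layer.2 ⟨hBC (inv_mem hv), pow_mem (inv_mem hv) 2, fun x =>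
        T.br_mem (inv_mem hv)⟩)
    have ht2 : t ^ 2 = 1 := by
      rw [ht, Commute.mul_pow (hcomB u hu _ (inv_mem hv)).symm, inv_pow, hv2, mul_inv_cancel]
    have htx : ∀ x : X, ⁅x, t⁆ ∈ omegaCenter X := fun x => by
      have hβ : ⁅x, t⁆ ∈ T.B := (mem_layer.1 htu).2.2 x
      refine T.mem_E hβ ?_
      have h' : (⁅x, t⁆ * t) ^ 2 = 1 := by
        rw [commutatorElement_def, inv_mul_cancel_right, conj_pow, ht2, mul_one, mul_inv_cancel]
      rw [Commute.mul_pow (hcomB t htu _ hβ), ht2, mul_one] at h'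
      exact h'
    have htE := mem_of_involution T.noE8 (E := omegaCenter X) omegaCenter_comm (fun _ h => h.2)
      (T.toMoved.four_le T.noE8 T.odd) ht2 (fun e he => (T.central he t).symm) htx
    have := mul_mem (T.le htE) hv
    rwa [ht, inv_mul_cancel_right] at this
  have hcE : ∀ u ∈ U, ∀ v ∈ U, ⁅u, v⁆ ∈ omegaCenter X := by
    intro u hu v hv
    have hβ : ⁅u, v⁆ ∈ T.B := (mem_layer.1 hv).2.2 u
    refine T.mem_E hβ ?_
    have h2 : ⁅u ^ 2, v⁆ = 1 :=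
      commutatorElement_eq_one_iff_commute.2 (hcomB v hv _ (hsqU u hu))
    have h3 : ⁅u, ⁅u, v⁆⁆ = 1 :=
      commutatorElement_eq_one_iff_commute.2 (hcomB u hu _ hβ).symm
    rw [br_sq_left, h3, one_mul] at h2
    rw [pow_two, h2]
  have hsm : ∀ u ∈ U, ∀ v ∈ U, (u * v) ^ 2 ^ T.k = u ^ 2 ^ T.k * v ^ 2 ^ T.k := by
    intro u hu v hv
    have hc : ⁅u⁻¹, v⁆ ∈ omegaCenter X := hcE _ (inv_mem hu) v hv
    have h : (u * v) ^ 2 = u ^ 2 * ⁅u⁻¹, v⁆ * v ^ 2 := by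
      simp only [pow_two, commutatorElement_def]; group
    have hBc := T.le hc
    rw [hsd _ (mul_mem hu hv), hsd u hu, hsd v hv, h,
      Commute.mul_pow (T.comm _ (mul_mem (hsqU u hu) hBc) _ (hsqU v hv)),
      Commute.mul_pow (T.comm _ (hsqU u hu) _ hBc)]
    have : ⁅u⁻¹, v⁆ ^ 2 ^ (T.k - 1) = 1 := by
      rw [show T.k - 1 = T.k - 2 + 1 by omega, pow_succ', pow_mul, hc.2, one_pow]
    rw [this, mul_one]
  set u₁ := T.φ u₀ with hu₁def
  have hu₁ : u₁ ∈ U := map_mem_of_char U T.φ hu₀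
  set e := u₀ ^ 2 ^ T.k with he
  have he1 : e ≠ 1 := fun h => hu₀B (hker u₀ hu₀ h)
  have heE : e ∈ omegaCenter X := hsE u₀ hu₀
  have hrep : ∀ u ∈ U, ∀ w ∈ U, u ^ 2 ^ T.k = w ^ 2 ^ T.k → w⁻¹ * u ∈ T.B := by
    intro u hu w hw h
    refine hker _ (mul_mem (inv_mem hw) hu) ?_
    rw [hsm _ (inv_mem hw) _ hu, inv_pow, h, inv_mul_cancel]
  have hφφ : T.φ u₁ ^ 2 ^ T.k = (u₀ * u₁) ^ 2 ^ T.k := by
    rw [hsm _ hu₀ _ hu₁, hu₁def, ← map_pow, ← map_pow, ← he, T.phi_phi heE]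
  have hc01 : ⁅u₀, u₁⁆ = 1 := by
    have hcm := hcE u₀ hu₀ u₁ hu₁
    refine T.fixed hcm ?_
    obtain ⟨w, hw, hwe⟩ : ∃ w ∈ T.B, T.φ u₁ = u₀ * u₁ * w :=
      ⟨(u₀ * u₁)⁻¹ * T.φ u₁, hrep _ (map_mem_of_char U _ hu₁) _ (mul_mem hu₀ hu₁) hφφ,
        (mul_inv_cancel_left _ _).symm⟩
    rw [map_commutatorElement, ← hu₁def, hwe, commutator_right_mul (u := u₀ * u₁),
      commutatorElement_eq_one_iff_commute.2 (hcomB u₁ hu₁ w hw).symm, mul_one, mul_inv_cancel,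
      mul_one, commutator_right_mul, commutatorElement_self, mul_one, mul_inv_cancel, mul_one,
      ← commutatorElement_inv, T.inv_eq hcm]
  -- hence U is abelian
  have hK₁ : IsMulCommutative ↥(T.B ⊔ zpowers u₀) :=
    isMulCommutative_sup_zpowers ⟨⟨fun a b => Subtype.ext (T.comm a a.2 b b.2)⟩⟩
      (mem_layer.1 hu₀).1
  have hK : IsMulCommutative ↥((T.B ⊔ zpowers u₀) ⊔ zpowers u₁) := by
    refine isMulCommutative_sup_zpowers hK₁ ?_
    have hle : T.B ⊔ zpowers u₀ ≤ centralizer ({u₁} : Set X) :=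
      sup_le (fun b hb => mem_centralizer_singleton_iff.2 (hcomB u₁ hu₁ b hb))
        (zpowers_le.2 (mem_centralizer_singleton_iff.2
          (commutatorElement_eq_one_iff_commute.1 hc01).eq))
    exact mem_centralizer_iff.2 fun a ha => mem_centralizer_singleton_iff.1 (hle ha)
  have hUK : U ≤ (T.B ⊔ zpowers u₀) ⊔ zpowers u₁ := by
    intro u hu
    have hu0 : u₀ ∈ (T.B ⊔ zpowers u₀) ⊔ zpowers u₁ := mem_sup_left (mem_sup_right (mem_zpowers _))
    have hu1 : u₁ ∈ (T.B ⊔ zpowers u₀) ⊔ zpowers u₁ := mem_sup_right (mem_zpowers _)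
    have aux : ∀ w ∈ U, w ∈ (T.B ⊔ zpowers u₀) ⊔ zpowers u₁ → u ^ 2 ^ T.k = w ^ 2 ^ T.k →
        u ∈ (T.B ⊔ zpowers u₀) ⊔ zpowers u₁ := fun w hw hwK h => by
      have := mul_mem hwK (mem_sup_left (T := zpowers u₁)
        (mem_sup_left (T := zpowers u₀) (hrep u hu w hw h)))
      rwa [mul_inv_cancel_left] at this
    rcases T.cases heE he1 (hsE u hu) with h | h | h | h
    · exact mem_sup_left (mem_sup_left (hker u hu h))
    · exact aux u₀ hu₀ hu0 h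
    · exact aux u₁ hu₁ hu1 (by rw [h, he, map_pow])
    · exact aux _ (mul_mem hu₀ hu₁) (mul_mem hu0 hu1)
        (by rw [h, ← hφφ, hu₁def, he, map_pow, map_pow])
  have hUab : IsMulCommutative U :=
    ⟨⟨fun a b => Subtype.ext
      (congrArg Subtype.val (hK.is_comm.comm ⟨a, hUK a.2⟩ ⟨b, hUK b.2⟩) :)⟩⟩
  exact hu₀B (T.max U inferInstance hUab
    (fun b hb => mem_layer.2 ⟨hBC hb, pow_mem hb 2, fun x => T.br_mem hb⟩) hu₀)

theorem sum_apply (g : X) : ∀ b ∈ T.B, b ^ 2 ^ 2 = 1 →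
    ⁅g, b⁆ * T.φ ⁅g, T.φ (T.φ b)⁆ * T.φ (T.φ ⁅g, T.φ b⁆) = 1 := by
  intro b hb hb4
  have hbφ : ∀ {c : X}, c ∈ T.B → c ^ 2 ^ 2 = 1 →
      T.φ c ∈ T.B ∧ T.φ c ^ 2 ^ 2 = 1 := fun {c} hc h =>
    ⟨map_mem_of_char _ _ hc, by rw [← map_pow, h, map_one]⟩
  obtain ⟨hb1, hb14⟩ := hbφ hb hb4
  obtain ⟨hb2, hb24⟩ := hbφ hb1 hb14
  have hmem : ∀ x : X, ∀ c ∈ T.B, c ^ 2 ^ 2 = 1 → ⁅x, c⁆ ∈ omegaCenter X := fun x c hc h =>
    T.br_mem_E (T.cen_one x) hc h
  have hadd : ∀ x y : X, ∀ c ∈ T.B, c ^ 2 ^ 2 = 1 → ⁅x * y, c⁆ = ⁅x, c⁆ * ⁅y, c⁆ := by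
    intro x y c hc h
    have e : ⁅x * y, c⁆ = x * ⁅y, c⁆ * x⁻¹ * ⁅x, c⁆ := by
      simp only [commutatorElement_def]; group
    rw [e, T.central (hmem y c hc h) x, mul_inv_cancel_right, T.central (hmem x c hc h)]
  have hc : ∀ x y c : X, c ∈ omegaCenter X → Commute x c := fun x _ c h => T.central h x
  have hφc : ∀ {c : X}, c ∈ omegaCenter X → T.φ c ∈ omegaCenter X := map_mem_omegaCenter _
  let Ψ : X →* X := MonoidHom.mk'
    (fun x => ⁅x, b⁆ * T.φ ⁅x, T.φ (T.φ b)⁆ * T.φ (T.φ ⁅x, T.φ b⁆)) (fun x y => by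
      rw [hadd x y b hb hb4, hadd x y _ hb2 hb24, hadd x y _ hb1 hb14, map_mul, map_mul, map_mul]
      rw [Commute.mul_mul_mul_comm (hc _ y _ (hφc (hmem x _ hb2 hb24))),
        Commute.mul_mul_mul_comm (hc _ y _ (hφc (hφc (hmem x _ hb1 hb14))))])
  have hΨ : ∀ x, Ψ x = ⁅x, b⁆ * T.φ ⁅x, T.φ (T.φ b)⁆ * T.φ (T.φ ⁅x, T.φ b⁆) := fun x => rfl
  -- a transported bracket
  have htr : ∀ β ∈ A, ∀ x : X, ∀ c ∈ T.B, c ^ 2 ^ 2 = 1 → ∀ d ∈ T.B, d ^ 2 ^ 2 = 1 →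
      β (c ^ 2) = d ^ 2 → β ⁅x, c⁆ = ⁅β x, d⁆ := by
    intro β _ x c hc _ d hd _ h
    rw [map_commutatorElement]
    exact T.cen_congr (T.cen_one _) (map_mem_of_char _ _ hc) hd (by
      rw [pow_one, ← map_pow, h])
  have hinv : ∀ β ∈ A, ∀ x : X, Ψ (β x) = Ψ x := by
    intro β hβ x
    have hsqE : ∀ {c : X}, c ∈ T.B → c ^ 2 ^ 2 = 1 → c ^ 2 ∈ omegaCenter X := fun {c} hc h =>
      T.mem_E (pow_mem hc 2) (by rw [← pow_mul]; exact h)
    have hp := hmem x b hb hb4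
    have hq := hmem x _ hb2 hb24
    have hr := hmem x _ hb1 hb14
    have e3 : T.φ (T.φ (T.φ b)) ^ 2 = b ^ 2 := by
      rw [← map_pow, ← map_pow, ← map_pow, T.cube (hsqE hb hb4)]
    rcases T.toMoved.act T.noE8 T.odd hβ with h | h | h
    · rw [hΨ, hΨ,
        ← htr β hβ x b hb hb4 b hb hb4 (h _ (hsqE hb hb4)),
        ← htr β hβ x _ hb2 hb24 _ hb2 hb24 (h _ (hsqE hb2 hb24)),
        ← htr β hβ x _ hb1 hb14 _ hb1 hb14 (h _ (hsqE hb1 hb14)),
        h _ hp, h _ hq, h _ hr]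
    · rw [hΨ, hΨ,
        ← htr β hβ x _ hb2 hb24 b hb hb4 (by rw [h _ (hsqE hb2 hb24), map_pow, e3]),
        ← htr β hβ x _ hb1 hb14 _ hb2 hb24 (by rw [h _ (hsqE hb1 hb14), map_pow]),
        ← htr β hβ x b hb hb4 _ hb1 hb14 (by rw [h _ (hsqE hb hb4), map_pow]),
        h _ hp, h _ hq, h _ hr, T.cube hp]
      rw [T.central hp (T.φ ⁅x, T.φ (T.φ b)⁆ * T.φ (T.φ ⁅x, T.φ b⁆)), mul_assoc]
    · rw [hΨ, hΨ,
        ← htr β hβ x _ hb1 hb14 b hb hb4 (by rw [h _ (hsqE hb1 hb14), map_pow, map_pow, e3]),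
        ← htr β hβ x b hb hb4 _ hb2 hb24 (by rw [h _ (hsqE hb hb4), map_pow, map_pow]),
        ← htr β hβ x _ hb2 hb24 _ hb1 hb14 (by
          rw [h _ (hsqE hb2 hb24), ← map_pow, ← map_pow,
            T.cube (hφc (hsqE hb hb4))]),
        h _ hp, h _ hq, h _ hr, T.cube hp]
      rw [T.cube hq, mul_assoc, ← T.central (mul_mem hp (hφc hq))]
  have hker : Subgroup.closure {g : X | ∃ φ ∈ A, ∃ x : X, g = x⁻¹ * φ x} ≤ Ψ.ker := by
    rw [closure_le]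
    rintro _ ⟨β, hβ, x, rfl⟩
    show Ψ (x⁻¹ * β x) = 1
    rw [map_mul, map_inv, hinv β hβ, inv_mul_cancel]
  exact hker (T.gen ▸ mem_top g)

end Tower

end CfsgLib.PGroups.NoSCNThree
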