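import Cfsg.Agent.Lib.PGroups.NoSCNThree.Four

/-!
# The layer above a characteristic subgroup
-/

set_option autoImplicit false
set_option linter.unusedSectionVars false
set_option linter.style.haveILetI false

namespace CfsgLib.PGroups.NoSCNThree

open Subgroup
open scoped commutatorElement

variable {X : Type*} [Group X] [Finite X]

theorem commutator_right_mul (x u v : X) : ⁅x, u * v⁆ = ⁅x, u⁆ * (u * ⁅x, v⁆ * u⁻¹) := by
  simp only [commutatorElement_def]; group

/-- The elements of `C` of order two and central modulo `B`. -/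
def layer (B C : Subgroup X) [B.Normal] : Subgroup X where
  carrier := {u | u ∈ C ∧ u ^ 2 ∈ B ∧ ∀ x : X, ⁅x, u⁆ ∈ B}
  one_mem' := ⟨one_mem _, by rw [one_pow]; exact one_mem _, fun x => by
    rw [commutatorElement_one_right]; exact one_mem _⟩
  mul_mem' := fun {u v} hu hv => ⟨mul_mem hu.1 hv.1, by
    have h : (u * v) ^ 2 = u ^ 2 * ⁅u⁻¹, v⁆ * v ^ 2 := by
      simp only [pow_two, commutatorElement_def]; group
    rw [h]; exact mul_mem (mul_mem hu.2.1 (hv.2.2 _)) hv.2.1, fun x => by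
    rw [commutator_right_mul]
    exact mul_mem (hu.2.2 x) ((inferInstance : B.Normal).conj_mem _ (hv.2.2 x) u)⟩
  inv_mem' := fun {u} hu => ⟨inv_mem hu.1, by rw [inv_pow]; exact inv_mem hu.2.1, fun x => by
    have h : ⁅x, u⁻¹⁆ = u⁻¹ * ⁅x, u⁆⁻¹ * u⁻¹⁻¹ := by simp only [commutatorElement_def]; group
    rw [h]; exact (inferInstance : B.Normal).conj_mem _ (inv_mem (hu.2.2 x)) _⟩

variable {B C : Subgroup X} [B.Normal]

theorem mem_layer {u : X} : u ∈ layer B C ↔ u ∈ C ∧ u ^ 2 ∈ B ∧ ∀ x : X, ⁅x, u⁆ ∈ B := Iff.rfl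

theorem map_mem_of_char (H : Subgroup X) [H.Characteristic] (φ : MulAut X) {x : X} (hx : x ∈ H) :
    φ x ∈ H :=
  (Subgroup.characteristic_iff_map_le.1 inferInstance φ) (Subgroup.mem_map_of_mem φ.toMonoidHom hx)

theorem layer_characteristic [B.Characteristic] [C.Characteristic] :
    (layer B C).Characteristic := by
  rw [Subgroup.characteristic_iff_map_le]
  intro φ
  rintro _ ⟨u, hu, rfl⟩
  show φ u ∈ layer B C
  refine ⟨map_mem_of_char C φ hu.1, ?_, fun x => ?_⟩
  · rw [← map_pow]; exact map_mem_of_char B φ hu.2.1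
  · have h := map_mem_of_char B φ (hu.2.2 (φ.symm x))
    rwa [map_commutatorElement, MulEquiv.apply_symm_apply] at h

theorem exists_mem_layer (hX : IsPGroup 2 X) [C.Normal] (hBC : B < C) :
    ∃ u ∈ layer B C, u ∉ B := by
  haveI : Fact (Nat.Prime 2) := ⟨Nat.prime_two⟩
  obtain ⟨K, -, hBK, hKC, hidx, hcen⟩ := exists_normal_index_prime hX hBC
  obtain ⟨u, huK, huB⟩ : ∃ u ∈ K, u ∉ B := by
    refine SetLike.not_le_iff_exists.mp fun h => ?_
    rw [Subgroup.relIndex_eq_one.mpr h] at hidx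
    omega
  refine ⟨u, ⟨hKC huK, ?_, fun x => hcen u huK x⟩, huB⟩
  exact Subgroup.mem_subgroupOf.1
    (Subgroup.sq_mem_of_index_two (H := B.subgroupOf K) hidx ⟨u, huK⟩)

end CfsgLib.PGroups.NoSCNThree
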