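import Cfsg.Agent.Lib.PGroups.NoSCNThree.Homocyclic

/-!
# A moved central four-group is the whole centre and contains all squares
-/

set_option autoImplicit false
set_option linter.unusedSectionVars false
set_option linter.style.haveILetI false

namespace CfsgLib.PGroups.NoSCNThree

open Subgroup
open scoped commutatorElement

variable {X : Type*} [Group X] [Finite X]

namespace Tower

variable {A : Subgroup (MulAut X)} (T : Tower A)

/-- The bracket with `g` separates the top layer of level `m`. -/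
def Inj (m : ℕ) (g : X) : Prop :=
  ∀ b ∈ T.B, b ^ 2 ^ (m + 1) = 1 → ⁅g, b⁆ = 1 → b ^ 2 ^ m = 1

theorem pow_top {m : ℕ} {b : X} (hb : b ∈ T.B) (h : b ^ 2 ^ (m + 1) = 1) :
    b ^ 2 ^ m ∈ omegaCenter X :=
  T.mem_E (pow_mem hb _) (by rw [← pow_mul, ← pow_succ]; exact h)

theorem phi_mem {b : X} (hb : b ∈ T.B) : T.φ b ∈ T.B := map_mem_of_char _ _ hb

/-- The bracket of every element follows one of the three translates of a nonidentity element. -/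
theorem bracket_cases {m : ℕ} {g : X} (hg : T.Cen m g) {b₀ b : X} (hb₀ : b₀ ∈ T.B)
    (h₀ : b₀ ^ 2 ^ (m + 1) = 1) (h₁ : b₀ ^ 2 ^ m ≠ 1) (hb : b ∈ T.B)
    (h : b ^ 2 ^ (m + 1) = 1) :
    b ^ 2 ^ m = 1 ∨ ⁅g, b⁆ = ⁅g, b₀⁆ ∨ ⁅g, b⁆ = ⁅g, T.φ b₀⁆ ∨
      ⁅g, b⁆ = ⁅g, T.φ (T.φ b₀)⁆ := by
  rcases T.cases (T.pow_top hb₀ h₀) h₁ (T.pow_top hb h) with e | e | e | e
  · exact Or.inl e
  · exact Or.inr (Or.inl (T.cen_congr hg hb hb₀ e))
  · exact Or.inr (Or.inr (Or.inl (T.cen_congr hg hb (T.phi_mem hb₀) (by rw [e, map_pow]))))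
  · exact Or.inr (Or.inr (Or.inr (T.cen_congr hg hb (T.phi_mem (T.phi_mem hb₀))
      (by rw [e, map_pow, map_pow]))))

theorem inj_of_ne {m : ℕ} {g : X} (hg : T.Cen m g) {b₀ : X} (hb₀ : b₀ ∈ T.B)
    (h₀ : b₀ ^ 2 ^ (m + 1) = 1) (h₁ : b₀ ^ 2 ^ m ≠ 1) (n₁ : ⁅g, b₀⁆ ≠ 1)
    (n₂ : ⁅g, T.φ b₀⁆ ≠ 1) (n₃ : ⁅g, T.φ (T.φ b₀)⁆ ≠ 1) : T.Inj m g := by
  intro b hb h hgb
  rcases T.bracket_cases hg hb₀ h₀ h₁ hb h with e | e | e | e
  · exact e
  · exact absurd (e.symm.trans hgb) n₁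
  · exact absurd (e.symm.trans hgb) n₂
  · exact absurd (e.symm.trans hgb) n₃

theorem cen_succ_of_eq {m : ℕ} {g : X} (hg : T.Cen m g) {b₀ : X} (hb₀ : b₀ ∈ T.B)
    (h₀ : b₀ ^ 2 ^ (m + 1) = 1) (h₁ : b₀ ^ 2 ^ m ≠ 1) (n₁ : ⁅g, b₀⁆ = 1)
    (n₂ : ⁅g, T.φ b₀⁆ = 1) : T.Cen (m + 1) g := by
  intro b hb h
  rcases T.bracket_cases hg hb₀ h₀ h₁ hb h with e | e | e | e
  · exact hg b hb e
  · exact e.trans n₁
  · exact e.trans n₂
  · refine e.trans ?_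
    rw [← T.cen_congr hg (mul_mem hb₀ (T.phi_mem hb₀)) (T.phi_mem (T.phi_mem hb₀))
      (by rw [Commute.mul_pow (T.comm _ hb₀ _ (T.phi_mem hb₀)), ← map_pow, ← map_pow,
        ← map_pow, T.phi_phi (T.pow_top hb₀ h₀)]), T.br_mul hb₀ (T.phi_mem hb₀), n₁, n₂, one_mul]

theorem frobenius (g : X) {b : X} (hb : b ∈ T.B) (h : b ^ 2 ^ 2 = 1) :
    ⁅g, T.φ b⁆ = T.φ (T.φ ⁅g, b⁆) := by
  have hb1 := T.phi_mem hb
  have hb14 : T.φ b ^ 2 ^ 2 = 1 := by rw [← map_pow, h, map_one]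
  have hb2 := T.phi_mem hb1
  have hp := T.br_mem_E (i := 1) (T.cen_one g) hb h
  have hq := T.br_mem_E (i := 1) (T.cen_one g) hb1 hb14
  have hr : ⁅g, T.φ (T.φ b)⁆ = ⁅g, b⁆ * ⁅g, T.φ b⁆ := by
    rw [← T.cen_congr (T.cen_one g) (mul_mem hb hb1) hb2 (by
      rw [pow_one, Commute.mul_pow (T.comm _ hb _ hb1), ← map_pow, ← map_pow, ← map_pow]
      exact (T.phi_phi (T.pow_top (m := 1) hb h)).symm), T.br_mul hb hb1]
  have hs := T.sum_apply g b hb h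
  rw [hr, map_mul, ← mul_assoc, ← T.phi_phi hp, mul_assoc, ← map_mul T.φ, ← T.phi_phi hq,
    T.cube hq] at hs
  rw [eq_inv_of_mul_eq_one_right hs,
    T.inv_eq (map_mem_omegaCenter _ (map_mem_omegaCenter _ hp))]

theorem inj_one {g : X} (hg : ¬ T.Cen 2 g) : T.Inj 1 g := by
  intro b hb h hgb
  by_contra hb1
  refine hg (T.cen_succ_of_eq (T.cen_one g) hb h hb1 hgb ?_)
  rw [T.frobenius g hb h, hgb, map_one, map_one]

theorem cen_sq {m : ℕ} {g : X} (hm : 1 ≤ m) (hg : T.Cen m g) : T.Cen (m + 1) (g ^ 2) := by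
  intro b hb h
  have hd := T.br_mem_E hg hb h
  rw [br_sq_left, hg _ (T.le hd) (by
    rw [show m = m - 1 + 1 by omega, pow_succ', pow_mul, hd.2, one_pow]), one_mul, T.mul_self hd]

theorem mem_B_cen {g : X} (hg : g ∈ T.B) (i : ℕ) : T.Cen i g := fun b hb _ =>
  commutatorElement_eq_one_iff_commute.2 (T.comm g hg b hb)

theorem sq_two (hk : T.k = 2) (x : X) : x ^ 2 ∈ omegaCenter X := by
  have hcent := T.centralizer_eq (by omega)
  have hmem : ∀ y : X, T.Cen 2 y → y ∈ T.B := fun y hy => T.mem_of_cen_k hcent (hk ▸ hy)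
  have h4 : ∀ y ∈ T.B, y ^ 2 ^ 2 = 1 := fun y hy => hk ▸ T.exp y hy
  by_cases hx : x ∈ T.B
  · exact T.pow_top (m := 1) hx (h4 x hx)
  · have hsq : x ^ 2 ∈ T.B := hmem _ (T.cen_sq le_rfl (T.cen_one x))
    refine T.mem_E hsq ?_
    have := T.inj_one (fun h => hx (hmem x h)) _ hsq (h4 _ hsq)
      (commutatorElement_eq_one_iff_commute.2 (Commute.refl x |>.pow_right 2))
    rwa [pow_one] at this

theorem center_two (hk : T.k = 2) (hne : T.B ≠ ⊤) {z : X} (hz : z ∈ center X) :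
    z ∈ omegaCenter X := by
  have hcent := T.centralizer_eq (by omega)
  have hzB : z ∈ T.B := by
    rw [← hcent]; exact Subgroup.center_le_centralizer _ hz
  obtain ⟨x, -, hx⟩ := SetLike.exists_of_lt (lt_top_iff_ne_top.2 hne)
  refine T.mem_E hzB ?_
  have := T.inj_one (fun h => hx (T.mem_of_cen_k hcent (hk ▸ h))) z hzB (by simpa only [hk] using T.exp z hzB)
    (commutatorElement_eq_one_iff_commute.2 (Subgroup.mem_center_iff.1 hz x))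
  rwa [pow_one] at this

theorem exists_cen_two (hk : 3 ≤ T.k) (hne : T.B ≠ ⊤) : ∃ g, g ∉ T.B ∧ T.Cen 2 g := by
  obtain ⟨g, -, hg⟩ := SetLike.exists_of_lt (lt_top_iff_ne_top.2 hne)
  by_cases h2 : T.Cen 2 g
  · exact ⟨g, hg, h2⟩
  refine ⟨g ^ 2, fun hB => ?_, T.cen_sq le_rfl (T.cen_one g)⟩
  have hinj := T.inj_one h2
  obtain ⟨e, he, he1⟩ : ∃ e ∈ omegaCenter X, e ≠ 1 :=
    ⟨T.z, T.z_mem, fun h => T.moved (by rw [h, map_one])⟩
  obtain ⟨b₀, hb₀, hb₀e⟩ := T.exists_root_E (i := 2) (by omega) he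
  have hb₀8 : b₀ ^ 2 ^ 3 = 1 := by rw [pow_succ (2 : ℕ), pow_mul, hb₀e, he.2]
  have hc₀ : b₀ ^ 2 ∈ T.B := pow_mem hb₀ 2
  have hc₀4 : (b₀ ^ 2) ^ 2 ^ 2 = 1 := by rw [← pow_mul]; exact hb₀8
  set p := ⁅g, b₀ ^ 2⁆ with hp
  have hpE : p ∈ omegaCenter X := T.br_mem_E (i := 1) (T.cen_one g) hc₀ hc₀4
  have hp1 : p ≠ 1 := fun h => he1 (by
    rw [← hb₀e]; have := hinj _ hc₀ hc₀4 h; rwa [← pow_mul] at this)
  set d := ⁅g, b₀⁆ with hd
  have hdB : d ∈ T.B := T.br_mem hb₀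
  have hd2 : d ^ 2 = p := T.br_sq hb₀
  have hd4 : d ^ 2 ^ 2 = 1 := by rw [show (2 : ℕ) ^ 2 = 2 * 2 by rfl, pow_mul, hd2, hpE.2]
  have key : ∀ b ∈ T.B, b ^ 2 ^ 3 = 1 → ⁅g, ⁅g, b⁆⁆ = ⁅g, b ^ 2⁆ := by
    intro b hb hb8
    have hq : ⁅g, b ^ 2⁆ ∈ omegaCenter X :=
      T.br_mem_E (i := 1) (T.cen_one g) (pow_mem hb 2) (by rw [← pow_mul]; exact hb8)
    have h1 : ⁅g ^ 2, b⁆ = 1 := commutatorElement_eq_one_iff_commute.2 (T.comm _ hB b hb)
    rw [br_sq_left, mul_assoc, ← pow_two, T.br_sq hb] at h1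
    rw [eq_inv_of_mul_eq_one_left h1, T.inv_eq hq]
  have hb₁ := T.phi_mem hb₀
  have hb₁8 : T.φ b₀ ^ 2 ^ 3 = 1 := by rw [← map_pow, hb₀8, map_one]
  have hgd : ⁅g, d⁆ = p := key b₀ hb₀ hb₀8
  have hp' : ⁅g, T.φ b₀ ^ 2⁆ = T.φ (T.φ p) := by rw [← map_pow, T.frobenius g hc₀ hc₀4]
  have h1 := key _ hb₁ hb₁8
  rw [hp', T.cen_congr (T.cen_one g) (T.br_mem hb₁) (T.phi_mem (T.phi_mem hdB))
    (by rw [pow_one, T.br_sq hb₁, hp', ← map_pow, ← map_pow, hd2]),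
    T.frobenius g (T.phi_mem hdB) (by rw [← map_pow, hd4, map_one]),
    T.frobenius g hdB hd4, hgd, T.cube hpE] at h1
  exact hp1 (T.fixed hpE (T.φ.injective h1).symm)

theorem exists_cen (hk : 3 ≤ T.k) (hne : T.B ≠ ⊤) :
    ∀ i, 2 ≤ i → i + 1 ≤ T.k → ∃ g, g ∉ T.B ∧ T.Cen i g := by
  intro i hi
  induction i, hi using Nat.le_induction with
  | base => exact fun _ => T.exists_cen_two hk hne
  | succ i hi ih =>
    intro hik
    obtain ⟨g, hg, hci⟩ := ih (by omega)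
    by_cases h : T.Cen (i + 1) g
    · exact ⟨g, hg, h⟩
    refine ⟨g ^ 2, fun hB => h fun b hb hbi => ?_, T.cen_sq (by omega) hci⟩
    obtain ⟨c, hc, rfl⟩ := T.exists_root (i + 1) hik b hb hbi
    have hdE := T.br_mem_E hci hb hbi
    have hd4 : ⁅g, c⁆ ^ 2 ^ i = 1 := by
      rw [show 2 ^ i = 2 * (2 * 2 ^ (i - 2)) by
          rw [← pow_succ', ← pow_succ', show i - 2 + 1 + 1 = i by omega],
        pow_mul, T.br_sq hc, pow_mul, hdE.2, one_pow]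
    have h1 : ⁅g ^ 2, c⁆ = 1 := commutatorElement_eq_one_iff_commute.2 (T.comm _ hB c hc)
    rwa [br_sq_left, hci _ (T.br_mem hc) hd4, one_mul, ← pow_two, T.br_sq hc] at h1

theorem exists_inj {m : ℕ} (hm : m + 1 = T.k) (hcent : centralizer (T.B : Set X) = T.B) {g : X}
    (hg : g ∉ T.B) (hcm : T.Cen m g) :
    ∃ g', g' ∉ T.B ∧ T.Cen m g' ∧ T.Inj m g' := by
  by_cases hi : T.Inj m g
  · exact ⟨g, hg, hcm, hi⟩
  simp only [Inj, not_forall] at hi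
  obtain ⟨b₀, hb₀, h₀, hgb, h₁⟩ := hi
  have htop : ∀ b ∈ T.B, b ^ 2 ^ (m + 1) = 1 := fun b hb => hm ▸ T.exp b hb
  have hb₁ := T.phi_mem hb₀
  have hb₂ := T.phi_mem hb₁
  set q := ⁅g, T.φ b₀⁆ with hq
  have hqE : q ∈ omegaCenter X := T.br_mem_E hcm hb₁ (htop _ hb₁)
  have hq1 : q ≠ 1 := fun h =>
    hg (T.mem_of_cen_k hcent (hm ▸ T.cen_succ_of_eq hcm hb₀ h₀ h₁ hgb h))
  have hr : ⁅g, T.φ (T.φ b₀)⁆ = q := by
    rw [← T.cen_congr hcm (mul_mem hb₀ hb₁) hb₂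
      (by rw [Commute.mul_pow (T.comm _ hb₀ _ hb₁), ← map_pow, ← map_pow,
        ← map_pow, T.phi_phi (T.pow_top hb₀ h₀)]), T.br_mul hb₀ hb₁, hgb, one_mul]
  have hcφ : T.Cen m (T.φ g) := by
    intro b hb h
    obtain ⟨c, rfl⟩ := T.φ.surjective b
    have hc : c ∈ T.B := by
      have := map_mem_of_char T.B T.φ⁻¹ hb
      rwa [MulAut.inv_def, MulEquiv.symm_apply_apply] at this
    rw [← map_commutatorElement, hcm c hc (T.φ.injective (by rw [map_pow, h, map_one])), map_one]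
  have hadd : ∀ b ∈ T.B, ⁅g * T.φ g, b⁆ = ⁅g, b⁆ * ⁅T.φ g, b⁆ := by
    intro b hb
    have e : ⁅g * T.φ g, b⁆ = g * ⁅T.φ g, b⁆ * g⁻¹ * ⁅g, b⁆ := by
      simp only [commutatorElement_def]; group
    rw [e, T.central (T.br_mem_E hcφ hb (htop b hb)) g, mul_inv_cancel_right,
      T.central (T.br_mem_E hcm hb (htop b hb)) ⁅T.φ g, b⁆]
  have e₁ : ⁅g * T.φ g, T.φ b₀⁆ = q := by
    rw [hadd _ hb₁, ← map_commutatorElement, hgb, map_one, mul_one]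
  have e₂ : ⁅g * T.φ g, T.φ (T.φ b₀)⁆ = q * T.φ q := by
    rw [hadd _ hb₂, ← map_commutatorElement, hr]
  have e₀ : ⁅g * T.φ g, b₀⁆ = T.φ q := by
    rw [hadd _ hb₀, hgb, one_mul, ← T.cen_congr hcφ (T.phi_mem hb₂) hb₀
      (by rw [← map_pow, ← map_pow, ← map_pow, T.cube (T.pow_top hb₀ h₀)]),
      ← map_commutatorElement, hr]
  have hc' : T.Cen m (g * T.φ g) := fun b hb h => by
    rw [hadd b hb, hcm b hb h, hcφ b hb h, mul_one]
  have n₀ : T.φ q ≠ 1 := fun h => hq1 (T.φ.injective (h.trans (map_one _).symm))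
  refine ⟨g * T.φ g, fun hB => n₀ ?_, hc', T.inj_of_ne hc' hb₀ h₀ h₁ ?_ ?_ ?_⟩
  · rw [← e₀]; exact commutatorElement_eq_one_iff_commute.2 (T.comm _ hB _ hb₀)
  · rw [e₀]; exact n₀
  · rw [e₁]; exact hq1
  · rw [e₂]; intro h
    exact hq1 (T.fixed hqE ((eq_inv_of_mul_eq_one_right h).trans (T.inv_eq hqE)))

theorem k_le_two (hne : T.B ≠ ⊤) : T.k ≤ 2 := by
  by_contra hk3
  obtain ⟨m, hm⟩ : ∃ m, m + 1 = T.k := ⟨T.k - 1, by omega⟩
  have hcent := T.centralizer_eq (by omega)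
  obtain ⟨g₀, hg₀, hc₀⟩ := T.exists_cen (by omega) hne m (by omega) (by omega)
  obtain ⟨g, hg, hc, hinj⟩ := T.exists_inj hm hcent hg₀ hc₀
  have htop : ∀ b ∈ T.B, b ^ 2 ^ (m + 1) = 1 := fun b hb => hm ▸ T.exp b hb
  have hgg : g ^ 2 ∈ T.B := T.mem_of_cen_k hcent (hm ▸ T.cen_sq (by omega) hc)
  have hg2 : (g ^ 2) ^ 2 ^ m = 1 := hinj _ hgg (htop _ hgg)
    (commutatorElement_eq_one_iff_commute.2 ((Commute.refl g).pow_right 2))
  obtain ⟨v, hv, hv2⟩ := T.exists_root m hm.le _ (inv_mem hgg) (by rw [inv_pow, hg2, inv_one])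
  have hp := T.br_mem_E hc hv (htop v hv)
  obtain ⟨w, hw, hw2⟩ := T.exists_root_E (i := 1) (by omega) hp
  rw [pow_one] at hw2
  have hw4 : w ^ 2 ^ 2 = 1 := by rw [show (2 : ℕ) ^ 2 = 2 * 2 by rfl, pow_mul, hw2, hp.2]
  have hwm : w ^ 2 ^ m = 1 := by
    rw [show m = 2 + (m - 2) by omega, pow_add, pow_mul, hw4, one_pow]
  set p := ⁅g, v⁆ with hpdef
  have hvw : v * w ∈ T.B := mul_mem hv hw
  set t := g * (v * w) with htdef
  have hvwb : ⁅g, v * w⁆ = p := by rw [T.br_mul hv hw, hc w hw hwm, mul_one]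
  have ht2 : t ^ 2 = 1 := by
    have e : t ^ 2 = ⁅g, v * w⁆ * (v * w) * g ^ 2 * (v * w) := by
      rw [htdef, pow_two, pow_two, commutatorElement_def]; group
    rw [e, hvwb, mul_assoc p, mul_assoc p, mul_assoc _ (g ^ 2), T.comm _ hgg _ hvw, ← mul_assoc (v * w),
      ← pow_two (v * w), Commute.mul_pow (T.comm v hv w hw), hv2, hw2, T.central hp,
      mul_assoc p, inv_mul_cancel, mul_one, T.mul_self hp]
  have htg : g = t * (v * w)⁻¹ := by rw [htdef, mul_inv_cancel_right]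
  have htx : ∀ x : X, ⁅x, t⁆ ∈ omegaCenter X := by
    intro x
    have hh : g⁻¹ * (x * g * x⁻¹) ∈ T.B := by
      rw [← hcent]
      refine mem_centralizer_iff.2 fun b hb => ?_
      have hb' : x⁻¹ * b * x⁻¹⁻¹ ∈ T.B := (inferInstance : T.B.Normal).conj_mem b hb x⁻¹
      have h1 : ⁅g, x⁻¹ * b * x⁻¹⁻¹⁆ = ⁅g, b⁆ := T.cen_congr hc hb' hb (by
        rw [conj_pow, inv_inv, T.central (T.pow_top hb (htop b hb)) x⁻¹, inv_mul_cancel_right])
      have h2 : ⁅x * g * x⁻¹, b⁆ = ⁅g, b⁆ := by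
        have e : ⁅x * g * x⁻¹, b⁆ = x * ⁅g, x⁻¹ * b * x⁻¹⁻¹⁆ * x⁻¹ := by
          simp only [commutatorElement_def]; group
        rw [e, h1, T.central (T.br_mem_E hc hb (htop b hb)) x, mul_inv_cancel_right]
      simp only [commutatorElement_def] at h2
      have h3 : x * g * x⁻¹ * b * (x * g * x⁻¹)⁻¹ = g * b * g⁻¹ := mul_right_cancel h2
      calc b * (g⁻¹ * (x * g * x⁻¹))
          = g⁻¹ * (g * b * g⁻¹) * (x * g * x⁻¹) := by group
        _ = g⁻¹ * (x * g * x⁻¹) * b := by rw [← h3]; group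
    set h := g⁻¹ * (x * g * x⁻¹) with hdef
    have hN : T.B.Normal := inferInstance
    have hβ : ⁅x, t⁆ ∈ T.B := by
      have e : ⁅x, t⁆ = g * (h * (x * (v * w) * x⁻¹) * (v * w)⁻¹) * g⁻¹ := by
        rw [hdef, htdef, commutatorElement_def]; group
      rw [e]
      exact hN.conj_mem _ (mul_mem (mul_mem hh (hN.conj_mem _ hvw x)) (inv_mem hvw)) g
    set β := ⁅x, t⁆ with hβdef
    have htβ : ⁅t, β⁆ = ⁅g, β⁆ := by
      have h0 : ⁅v * w, β⁆ = 1 := commutatorElement_eq_one_iff_commute.2 (T.comm _ hvw _ hβ)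
      have e : ⁅t, β⁆ = g * ⁅v * w, β⁆ * g⁻¹ * ⁅g, β⁆ := by
        rw [htdef]; simp only [commutatorElement_def]; group
      rw [e, h0, mul_one, mul_inv_cancel, one_mul]
    have hgE := T.br_mem_E hc hβ (htop β hβ)
    have hsq : β * ⁅g, β⁆ * β = 1 := by
      have h' : (β * t) ^ 2 = 1 := by
        rw [hβdef, commutatorElement_def, inv_mul_cancel_right, conj_pow, ht2, mul_one,
          mul_inv_cancel]
      have e : (β * t) ^ 2 = β * ⁅t, β⁆ * β * t ^ 2 := by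
        simp only [pow_two, commutatorElement_def]; group
      rwa [e, htβ, ht2, mul_one] at h'
    rw [T.comm _ hβ _ (T.le hgE), mul_assoc, ← pow_two] at hsq
    have hβ2 : β ^ 2 = ⁅g, β⁆ := by rw [eq_inv_of_mul_eq_one_right hsq, T.inv_eq hgE]
    have hβm : β ^ 2 ^ m = 1 := by
      rw [show m = 2 + (m - 2) by omega, pow_add, pow_mul, show (2 : ℕ) ^ 2 = 2 * 2 by rfl,
        pow_mul β, hβ2, hgE.2, one_pow]
    exact T.mem_E hβ (by rw [hβ2, hc β hβ hβm])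
  have htE := mem_of_involution T.noE8 (E := omegaCenter X) omegaCenter_comm (fun _ h => h.2)
    (T.toMoved.four_le T.noE8 T.odd) ht2 (fun e he => (T.central he t).symm) htx
  exact hg (htg ▸ mul_mem (T.le htE) (inv_mem hvw))

end Tower

end CfsgLib.PGroups.NoSCNThree
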